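import Cfsg.Agent.Lib.Blocks.BlockOrth
import Mathlib

/-!
# Unions of blocks

The idempotent coefficients of a union of blocks are the sums of those of the blocks.
-/

set_option autoImplicit false

namespace Cfsg.Agent.Lib.BlockUnion

open Cfsg
open Cfsg.Agent.Lib Cfsg.Agent.Lib.Blocks
open scoped ComplexConjugate

universe u

variable {H : Type u} [Group H] [Finite H] {M : Ideal AlgInt} [M.IsPrime]

open Classical in
theorem blockCoeff_eq_sum_blocks [Fintype (IrrCharacter H)] (A : Set (IrrCharacter H))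
    (hA : ∀ φ ∈ A, ∀ φ' : IrrCharacter H, SameBlock M (φ : H → ℂ) (φ' : H → ℂ) → φ' ∈ A) (g : H) :
    blockCoeff A g = ∑ b ∈ A.toFinset.image (fun φ : IrrCharacter H => blockOf M (φ : H → ℂ)),
      blockCoeff b g := by
  simp only [blockCoeff, finsum_mem_eq_toFinset_sum, ← Finset.mul_sum]
  congr 1
  rw [← Finset.sum_fiberwise_of_maps_to (t := A.toFinset.image
    (fun φ : IrrCharacter H => blockOf M (φ : H → ℂ))) (fun φ hφ => Finset.mem_image_of_mem _ hφ)
    (fun φ : IrrCharacter H => (φ : H → ℂ) 1 * conj ((φ : H → ℂ) g))]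
  refine Finset.sum_congr rfl fun b hb => Finset.sum_congr ?_ fun _ _ => rfl
  obtain ⟨ψ, hψ, rfl⟩ := Finset.mem_image.1 hb
  ext φ
  simp only [Finset.mem_filter, Set.mem_toFinset] at hψ ⊢
  constructor
  · rintro ⟨-, h⟩
    rw [← h]
    exact mem_blockOf_self φ
  · intro h
    exact ⟨hA ψ hψ φ h, (blockOf_eq_of_sameBlock (show SameBlock M (ψ : H → ℂ) (φ : H → ℂ) from h)).symm⟩

/-- A union of blocks has no coefficient at p-singular elements. -/
theorem blockCoeff_eq_zero_of_pSingular_of_saturated {p : ℕ} [Fact p.Prime] (hM : IsPModular p M)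
    (A : Set (IrrCharacter H))
    (hA : ∀ φ ∈ A, ∀ φ' : IrrCharacter H, SameBlock M (φ : H → ℂ) (φ' : H → ℂ) → φ' ∈ A) {g : H}
    (hg : p ∣ orderOf g) : blockCoeff A g = 0 := by
  classical
  haveI := Fintype.ofFinite (IrrCharacter H)
  rw [blockCoeff_eq_sum_blocks A hA]
  refine Finset.sum_eq_zero fun b hb => ?_
  obtain ⟨ψ, -, rfl⟩ := Finset.mem_image.1 hb
  exact blockCoeff_eq_zero_of_pSingular hM (isPBlock_blockOf ψ) hg

/-- Some block in a union with a unit coefficient has a unit coefficient. -/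
theorem exists_block_unit (A : Set (IrrCharacter H))
    (hA : ∀ φ ∈ A, ∀ φ' : IrrCharacter H, SameBlock M (φ : H → ℂ) (φ' : H → ℂ) → φ' ∈ A) {g : H}
    (hg : ¬ MemLocalIdeal M (blockCoeff A g)) :
    ∃ φ ∈ A, ¬ MemLocalIdeal M (blockCoeff (blockOf M (φ : H → ℂ)) g) := by
  classical
  haveI := Fintype.ofFinite (IrrCharacter H)
  by_contra hno
  push Not at hno
  refine hg ?_
  rw [blockCoeff_eq_sum_blocks A hA]
  refine memLocalIdeal_sum _ _ fun b hb => ?_
  obtain ⟨ψ, hψ, rfl⟩ := Finset.mem_image.1 hb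
  exact hno ψ (Set.mem_toFinset.1 hψ)

end Cfsg.Agent.Lib.BlockUnion
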