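import Cfsg.Agent.Lib.BlockUnion.Basic
import Cfsg.Agent.Lib.BrauerFeit.Orth
import Cfsg.Agent.Lib.Blocks.DefectCard
import Cfsg.Agent.Lib.Blocks.Covering
import Mathlib

/-!
# Every character of a covered block lies below the covering block

If some member of a block of G has a constituent in a block b of a normal subgroup N, then
every member of b is a constituent of a member of the block.  The proof uses only the pairing
on p-regular elements.
-/

set_option autoImplicit false
set_option linter.unusedSectionVars false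

namespace Cfsg.Agent.Lib.BlockUnion

open Cfsg
open Cfsg.Agent.Lib Cfsg.Agent.Lib.Blocks
open Cfsg.Agent.Lib.Clifford (conjFun resFun)
open scoped ComplexConjugate

universe u

variable {G : Type u} [Group G] [Fintype G] {N : Subgroup G} [hN : N.Normal] [Fintype N]
  {p : ℕ} [Fact p.Prime] {M : Ideal AlgInt} [M.IsPrime]

/-- The element n is p-singular in N when it is in G. -/
theorem dvd_orderOf_coe (n : N) : p ∣ orderOf (n : G) ↔ p ∣ orderOf n := by
  rw [Subgroup.orderOf_coe]

theorem regInner_conjFun (g : G) (φ ψ : N → ℂ) :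
    HeightZero.regInner p (conjFun g φ) (conjFun g ψ) = HeightZero.regInner p φ ψ := by
  refine Fintype.sum_equiv (MulAut.conjNormal g).toEquiv _ _ fun n => ?_
  have e : (MulAut.conjNormal g n : N) = ⟨g * n * g⁻¹, hN.conj_mem (n : G) n.2 g⟩ :=
    Subtype.ext (MulAut.conjNormal_apply g n)
  have ho : orderOf (MulAut.conjNormal g n : N) = orderOf n :=
    orderOf_injective (MulAut.conjNormal g : MulAut N).toMonoidHom
      (MulAut.conjNormal g : MulAut N).injective n
  show HeightZero.regWeight p (conjFun g ψ) n * conjFun g φ n =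
    HeightZero.regWeight p ψ (MulAut.conjNormal g n : N) * φ (MulAut.conjNormal g n : N)
  simp only [HeightZero.regWeight, ho]
  rw [e]
  rfl

theorem regInner_add_right_sum {ι : Type*} (s : Finset ι) (φ : N → ℂ) (η : ι → N → ℂ) :
    HeightZero.regInner p φ (fun n => ∑ i ∈ s, η i n) =
      ∑ i ∈ s, HeightZero.regInner p φ (η i) := by
  simp only [HeightZero.regInner, HeightZero.regWeight, map_sum]
  rw [Finset.sum_comm]
  refine Finset.sum_congr rfl fun n _ => ?_
  split_ifs
  · simp
  · rw [Finset.sum_mul]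

theorem regInner_smul_right (c : ℂ) (φ η : N → ℂ) :
    HeightZero.regInner p φ (fun n => c * η n) = conj c * HeightZero.regInner p φ η := by
  simp only [HeightZero.regInner, HeightZero.regWeight, map_mul, Finset.mul_sum]
  refine Finset.sum_congr rfl fun n _ => ?_
  split_ifs <;> ring

/-- The sum of all conjugates of a constituent is a multiple of the restriction. -/
theorem exists_sum_conjFun_eq (χ : IrrCharacter G) (ψ : IrrCharacter N)
    (hψ : classInner (resFun N (χ : G → ℂ)) (ψ : N → ℂ) ≠ 0) :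
    ∃ c : ℂ, ∀ n : N, ∑ g : G, conjFun g (ψ : N → ℂ) n = c * (χ : G → ℂ) n := by
  classical
  have hres := Clifford.sum_resFun_eq_orbit χ.2 ψ.2 hψ
  set s := Clifford.orbitFun (G := G) (ψ : N → ℂ) with hs
  set d := classInner (resFun N (χ : G → ℂ)) (ψ : N → ℂ) with hd
  have hs0 : (s.card : ℂ) ≠ 0 := Nat.cast_ne_zero.2 (Finset.card_ne_zero.2
    ⟨(ψ : N → ℂ), Clifford.mem_orbitFun.2 ⟨1, Clifford.conjFun_one _⟩⟩)
  refine ⟨(Nat.card G : ℂ) / (d * s.card), fun n => ?_⟩
  have h1 : ∀ φ ∈ s, ∑ g : G, conjFun g φ n = ∑ g : G, conjFun g (ψ : N → ℂ) n := by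
    intro φ hφ
    obtain ⟨h, rfl⟩ := Clifford.mem_orbitFun.1 hφ
    simp only [← Clifford.conjFun_mul]
    exact Fintype.sum_equiv (Equiv.mulLeft h) _ _ fun g => rfl
  have h2 : ∑ g : G, conjFun g (resFun N (χ : G → ℂ)) n = (Nat.card G : ℂ) * (χ : G → ℂ) n := by
    rw [Finset.sum_congr rfl fun g _ => congrFun
      (Clifford.conjFun_resFun g (Chars.irr_isClassFunction χ)) n]
    rw [Finset.sum_const, Finset.card_univ, nsmul_eq_mul, Nat.card_eq_fintype_card]
    rfl
  have h3 : ∑ g : G, conjFun g (resFun N (χ : G → ℂ)) n =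
      d * (s.card * ∑ g : G, conjFun g (ψ : N → ℂ) n) := by
    rw [hres]
    simp only [conjFun, Pi.smul_apply, Finset.sum_apply, smul_eq_mul]
    rw [← Finset.mul_sum, Finset.sum_comm]
    congr 1
    exact (Finset.sum_congr rfl h1).trans (by rw [Finset.sum_const, nsmul_eq_mul]; rfl)
  rw [h3] at h2
  field_simp
  linear_combination h2

variable {B : Set (IrrCharacter G)}

/-- Some member of B restricts with θ as a constituent. -/
def Below (B : Set (IrrCharacter G)) (θ : IrrCharacter N) : Prop :=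
  ∃ χ ∈ B, classInner (resFun N (χ : G → ℂ)) (θ : N → ℂ) ≠ 0

theorem regInner_res_eq_zero (hM : IsPModular p M) (hB : IsPBlock M B) {χ : IrrCharacter G}
    (hχ : χ ∈ B) {θ : IrrCharacter N} (hθ : ¬ Below B θ) :
    HeightZero.regInner p (θ : N → ℂ) (resFun N (χ : G → ℂ)) = 0 := by
  refine (HeightZero.regInner_comm p (η := resFun N (χ : G → ℂ)) (Chars.irr_isCharacter θ)
    (Chars.isCharacter_restrict N (Chars.irr_isCharacter χ))).trans ?_
  have h : HeightZero.regInner p (resFun N (χ : G → ℂ)) (θ : N → ℂ) =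
      ∑ n : N, conj ((θ : N → ℂ) n) * pRegularPart p (χ : G → ℂ) (n : G) := by
    refine Finset.sum_congr rfl fun n _ => ?_
    simp only [HeightZero.regWeight, BrauerFeit.pRegularPart_apply, Subgroup.orderOf_coe,
      Clifford.resFun_apply]
    split_ifs <;> simp
  rw [h]
  simp only [BrauerFeit.pRegularPart_eq_sum, Finset.mul_sum]
  rw [Finset.sum_comm]
  refine Finset.sum_eq_zero fun ζ _ => ?_
  by_cases hζ : ζ ∈ B
  · have h0 : classInner (resFun N (ζ : G → ℂ)) (θ : N → ℂ) = 0 := by
      by_contra hc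
      exact hθ ⟨ζ, hζ, hc⟩
    rw [classInner, mul_eq_zero] at h0
    have h1 := h0.resolve_left (inv_ne_zero Chars.natCard_ne_zero)
    calc ∑ n : N, conj ((θ : N → ℂ) n) * (BrauerFeit.regCoef p χ ζ * (ζ : G → ℂ) n)
        = BrauerFeit.regCoef p χ ζ * ∑ n : N, resFun N (ζ : G → ℂ) n * conj ((θ : N → ℂ) n) := by
          rw [Finset.mul_sum]
          exact Finset.sum_congr rfl fun n _ => by rw [Clifford.resFun_apply]; ring
      _ = 0 := by rw [h1, mul_zero]
  · refine Finset.sum_eq_zero fun n _ => ?_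
    rw [BrauerFeit.regCoef_eq_zero_of_not_mem (BrauerFeit.regOrth hM) hB hχ hζ]
    ring

/-- A character below B and one not below pair to zero after averaging over G. -/
theorem sum_regInner_eq_zero (hM : IsPModular p M) (hB : IsPBlock M B) {θ ψ : IrrCharacter N}
    (hψ : Below B ψ) (hθ : ¬ Below B θ) :
    ∑ g : G, HeightZero.regInner p (θ : N → ℂ) (conjFun g (ψ : N → ℂ)) = 0 := by
  obtain ⟨χ, hχ, hcon⟩ := hψ
  obtain ⟨c, hc⟩ := exists_sum_conjFun_eq χ ψ hcon
  rw [← regInner_add_right_sum]
  rw [show (fun n : N => ∑ g : G, conjFun g (ψ : N → ℂ) n) =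
    fun n => c * resFun N (χ : G → ℂ) n from funext hc, regInner_smul_right,
    regInner_res_eq_zero hM hB hχ hθ, mul_zero]

theorem below_conjFun_iff (g : G) {φ φ' : IrrCharacter N}
    (h : conjFun g (φ : N → ℂ) = (φ' : N → ℂ)) : Below B φ' ↔ Below B φ := by
  unfold Below
  simp only [← h, Covering.classInner_resFun_conjFun']

/-- The part above a G-stable set of the pairing with a restriction averages over conjugation. -/
theorem card_mul_part_eq (ζ : IrrCharacter G) (φ : IrrCharacter N) (P : IrrCharacter N → Prop)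
    [DecidablePred P]
    (hP : ∀ (g : G) (ψ ψ' : IrrCharacter N), conjFun g (ψ : N → ℂ) = (ψ' : N → ℂ) → (P ψ' ↔ P ψ)) :
    (Nat.card G : ℂ) * ∑ ψ ∈ Finset.univ.filter P, classInner (resFun N (ζ : G → ℂ)) (ψ : N → ℂ) *
        HeightZero.regInner p (φ : N → ℂ) (ψ : N → ℂ) =
      ∑ ψ ∈ Finset.univ.filter P, classInner (resFun N (ζ : G → ℂ)) (ψ : N → ℂ) *
        ∑ g : G, HeightZero.regInner p (φ : N → ℂ) (conjFun g (ψ : N → ℂ)) := by
  classical
  have key : ∀ g : G, ∑ ψ ∈ Finset.univ.filter P, classInner (resFun N (ζ : G → ℂ)) (ψ : N → ℂ) *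
        HeightZero.regInner p (φ : N → ℂ) (conjFun g (ψ : N → ℂ)) =
      ∑ ψ ∈ Finset.univ.filter P, classInner (resFun N (ζ : G → ℂ)) (ψ : N → ℂ) *
        HeightZero.regInner p (φ : N → ℂ) (ψ : N → ℂ) := by
    intro g
    refine Finset.sum_nbij' (fun ψ => ⟨_, Clifford.isIrrCharacter_conjFun g ψ.2⟩)
      (fun ψ => ⟨_, Clifford.isIrrCharacter_conjFun g⁻¹ ψ.2⟩) ?_ ?_ ?_ ?_ ?_
    · intro ψ hψ
      simpa [hP g ψ ⟨_, Clifford.isIrrCharacter_conjFun g ψ.2⟩ rfl] using hψ
    · intro ψ hψ
      simpa [hP g⁻¹ ψ ⟨_, Clifford.isIrrCharacter_conjFun g⁻¹ ψ.2⟩ rfl] using hψ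
    · intro ψ _
      apply Subtype.ext
      show conjFun g⁻¹ (conjFun g (ψ : N → ℂ)) = _
      rw [← Clifford.conjFun_mul, mul_inv_cancel, Clifford.conjFun_one]
    · intro ψ _
      apply Subtype.ext
      show conjFun g (conjFun g⁻¹ (ψ : N → ℂ)) = _
      rw [← Clifford.conjFun_mul, inv_mul_cancel, Clifford.conjFun_one]
    · intro ψ _
      show _ = classInner (resFun N (ζ : G → ℂ)) (conjFun g (ψ : N → ℂ)) * _
      rw [Covering.classInner_resFun_conjFun']
  simp only [Finset.mul_sum (s := (Finset.univ : Finset G))]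
  rw [Finset.sum_comm, Finset.sum_congr rfl fun g _ => key g, Finset.sum_const, Finset.card_univ,
    nsmul_eq_mul, Nat.card_eq_fintype_card]

theorem regInner_res_eq_sum (ζ : IrrCharacter G) (φ : IrrCharacter N) :
    HeightZero.regInner p (φ : N → ℂ) (resFun N (ζ : G → ℂ)) =
      ∑ ψ : IrrCharacter N, classInner (resFun N (ζ : G → ℂ)) (ψ : N → ℂ) *
        HeightZero.regInner p (φ : N → ℂ) (ψ : N → ℂ) := by
  have hres := Chars.isCharacter_eq_sum_classInner
    (φ := resFun N (ζ : G → ℂ)) (Chars.isCharacter_restrict N (Chars.irr_isCharacter ζ))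
  conv_lhs => rw [hres, show (∑ ψ : IrrCharacter N,
      classInner (resFun N (ζ : G → ℂ)) (ψ : N → ℂ) • (ψ : N → ℂ)) =
    fun n => ∑ ψ : IrrCharacter N, classInner (resFun N (ζ : G → ℂ)) (ψ : N → ℂ) * (ψ : N → ℂ) n
    by ext n; simp]
  rw [regInner_add_right_sum]
  refine Finset.sum_congr rfl fun ψ _ => ?_
  obtain ⟨k, hk⟩ := Chars.isCharacter_classInner_nat
    (φ := resFun N (ζ : G → ℂ)) (Chars.isCharacter_restrict N (Chars.irr_isCharacter ζ))
    (Chars.irr_isCharacter ψ)
  rw [regInner_smul_right, hk, map_natCast]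

/-- Some restriction from G pairs with θ to a unit. -/
theorem exists_regInner_res_unit (hM : IsPModular p M) {b : Set (IrrCharacter N)}
    (hb : IsPBlock M b) {θ : IrrCharacter N} (hθ : θ ∈ b) :
    ∃ ζ : IrrCharacter G, ¬ MemLocalIdeal M
      (HeightZero.regInner p (θ : N → ℂ) (resFun N (ζ : G → ℂ)) / (θ : N → ℂ) 1) := by
  classical
  haveI : Fintype (ConjClasses G) := Fintype.ofFinite _
  have hpp : p.Prime := Fact.out
  -- a regular class of G inside N with unit induced central character
  have hsum := Covering.sum_coverWeight_mul_theta (G := G) b θ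
  rw [if_pos (Covering.mem_conjClosure_self hθ),
    HeightZero.sum_mul_div_eq_sum_inducedCentralChar N (Covering.isClassFunction_coverWeight b)]
    at hsum
  obtain ⟨C, hC⟩ : ∃ C : ConjClasses G, ¬ MemLocalIdeal M (Covering.coverWeight b (Quotient.out C) *
      inducedCentralChar N (θ : N → ℂ) (Quotient.out C)) := by
    by_contra hno
    push Not at hno
    exact not_memLocalIdeal_one (hsum ▸ memLocalIdeal_sum _ _ fun C _ => hno C)
  set g0 := Quotient.out C with hg0
  have hg0N : g0 ∈ N := by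
    by_contra h
    exact hC (by simpa [Covering.coverWeight, h] using memLocalIdeal_zero)
  have hreg : ¬ p ∣ orderOf g0 := fun hd => hC (by
    have hd' : p ∣ orderOf (⟨g0, hg0N⟩ : N) := by rwa [← Subgroup.orderOf_coe]
    rw [show Covering.coverWeight b g0 = blockCoeff (Covering.conjClosure b) (⟨g0, hg0N⟩ : N) from
      Covering.coverWeight_coe b ⟨g0, hg0N⟩,
      blockCoeff_eq_zero_of_pSingular_of_saturated hM _
        (fun φ hφ φ' hs => Covering.mem_conjClosure_of_sameBlock hb hφ hs) hd', zero_mul]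
    exact memLocalIdeal_zero)
  have hind : ¬ MemLocalIdeal M (inducedCentralChar N (θ : N → ℂ) g0) :=
    fun h => hC (memLocalIdeal_mul_left (Covering.memLocalRing_coverWeight hb _) h)
  -- averaged character values
  obtain ⟨D, hD⟩ := exists_isClassDefect (p := p) g0
  haveI := Fintype.ofFinite D
  have hcent : g0 ∈ Subgroup.centralizer (D : Set G) := le_centralizer_singleton_iff.1 hD.2.1
  choose d hdint hd using fun ζ : IrrCharacter G =>
    exists_sum_translate_eq (Chars.irr_isCharacter ζ) D hcent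
  have hD0 : (Nat.card D : ℂ) ≠ 0 := Chars.natCard_ne_zero
  set w : ℂ := (Nat.card (Subgroup.centralizer ({g0} : Set G)) : ℂ) / (Nat.card D : ℂ) with hw
  have hsing : ∀ y : D, y ≠ 1 → p ∣ orderOf (g0 * (y : G)) := by
    intro y hy
    obtain ⟨k, hk⟩ := IsPGroup.iff_orderOf.1 hD.1 y
    rw [← Subgroup.orderOf_coe] at hk
    have hk0 : k ≠ 0 := by
      rintro rfl
      rw [pow_zero, orderOf_eq_one_iff] at hk
      exact hy (Subtype.ext hk)
    have hcomm : Commute g0 (y : G) := (Subgroup.mem_centralizer_iff.1 hcent y y.2).symm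
    rw [hcomm.orderOf_mul_eq_mul_orderOf_of_coprime, hk]
    · exact dvd_mul_of_dvd_right (dvd_pow_self p hk0) _
    · rw [hk]
      exact ((hpp.coprime_iff_not_dvd.2 hreg).symm).pow_right k
  have key : ∀ n : N, ¬ p ∣ orderOf n →
      ∑ ζ : IrrCharacter G, d ζ * conj ((ζ : G → ℂ) n) = w * Chars.classIndicator g0 (n : G) := by
    intro n hn
    have hn' : ¬ p ∣ orderOf (n : G) := by rwa [Subgroup.orderOf_coe]
    have hy : ∀ y : D, ∑ ζ : IrrCharacter G, (ζ : G → ℂ) (g0 * (y : G)) * conj ((ζ : G → ℂ) n) =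
        if y = 1 then (Nat.card (Subgroup.centralizer ({g0} : Set G)) : ℂ) *
          Chars.classIndicator g0 (n : G) else 0 := by
      intro y
      by_cases hy1 : y = 1
      · rw [if_pos hy1, hy1, OneMemClass.coe_one, mul_one]
        by_cases hc : IsConj g0 (n : G)
        · rw [Chars.column_orthogonality_of_isConj hc, Chars.classIndicator, if_pos hc, mul_one]
        · rw [Chars.column_orthogonality_of_not_isConj hc, Chars.classIndicator, if_neg hc,
            mul_zero]
      · rw [if_neg hy1, Chars.column_orthogonality_of_not_isConj]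
        intro hc
        obtain ⟨c, hc⟩ := isConj_iff.1 hc
        refine hn' ?_
        have : orderOf (c * (g0 * (y : G)) * c⁻¹) = orderOf (g0 * (y : G)) :=
          orderOf_injective (MulAut.conj c).toMonoidHom (MulAut.conj c).injective _
        rw [← hc, this]
        exact hsing y hy1
    have h1 : ∑ ζ : IrrCharacter G, ((Nat.card D : ℂ) * d ζ) * conj ((ζ : G → ℂ) n) =
        (Nat.card (Subgroup.centralizer ({g0} : Set G)) : ℂ) *
          Chars.classIndicator g0 (n : G) := by
      simp only [← hd, Finset.sum_mul]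
      rw [Finset.sum_comm, Finset.sum_congr rfl fun y _ => hy y, Finset.sum_ite_eq',
        if_pos (Finset.mem_univ _)]
    simp only [mul_assoc, ← Finset.mul_sum] at h1
    rw [hw]
    field_simp
    linear_combination h1
  have hid : ∑ ζ : IrrCharacter G, d ζ *
      (HeightZero.regInner p (θ : N → ℂ) (resFun N (ζ : G → ℂ)) / (θ : N → ℂ) 1) =
      w * inducedCentralChar N (θ : N → ℂ) g0 := by
    rw [Covering.inducedCentralChar_eq_sum_indicator, Finset.mul_sum]
    simp only [HeightZero.regInner, Finset.sum_div, Finset.mul_sum]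
    rw [Finset.sum_comm]
    refine Finset.sum_congr rfl fun n _ => ?_
    by_cases hn : p ∣ orderOf n
    · have h0 : Chars.classIndicator g0 (n : G) = 0 := by
        rw [Chars.classIndicator, if_neg]
        intro hc
        obtain ⟨c, hc⟩ := isConj_iff.1 hc
        refine hreg ?_
        have : orderOf (c * g0 * c⁻¹) = orderOf g0 :=
          orderOf_injective (MulAut.conj c).toMonoidHom (MulAut.conj c).injective _
        rw [← this, hc, Subgroup.orderOf_coe]
        exact hn
      simp [HeightZero.regWeight, hn, h0]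
    · have h1 : ∀ ζ : IrrCharacter G, d ζ * (HeightZero.regWeight p (resFun N (ζ : G → ℂ)) n *
          (θ : N → ℂ) n / (θ : N → ℂ) 1) =
          (d ζ * conj ((ζ : G → ℂ) n)) * ((θ : N → ℂ) n / (θ : N → ℂ) 1) := by
        intro ζ
        simp only [HeightZero.regWeight, if_neg hn, Clifford.resFun_apply]
        ring
      rw [Finset.sum_congr rfl fun ζ _ => h1 ζ, ← Finset.sum_mul, key n hn]
      ring
  have hwR : w ∈ localRing M := natCast_div_mem_localRing hM Nat.card_pos.ne' (Or.inl (by
    rw [hD.2.2, hpp.factorization_pow, Finsupp.single_eq_same]))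
  have hwI : ¬ MemLocalIdeal M w := by
    intro h
    have hinv : (Nat.card D : ℂ) / (Nat.card (Subgroup.centralizer ({g0} : Set G)) : ℂ)
        ∈ localRing M := natCast_div_mem_localRing hM Nat.card_pos.ne' (Or.inl (by
      rw [hD.2.2, hpp.factorization_pow, Finsupp.single_eq_same]))
    refine not_memLocalIdeal_one (M := M) ?_
    convert memLocalIdeal_mul_right h (mem_localRing.1 hinv) using 1
    have : (Nat.card (Subgroup.centralizer ({g0} : Set G)) : ℂ) ≠ 0 := Chars.natCard_ne_zero
    rw [hw]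
    field_simp
  have hindR : MemLocalRing M (inducedCentralChar N (θ : N → ℂ) g0) :=
    mem_localRing.1 (inducedCentralChar_mem_localRing N θ g0)
  by_contra hno
  push Not at hno
  exact not_memLocalIdeal_mul (mem_localRing.1 hwR) hindR hwI hind
    (hid ▸ memLocalIdeal_sum _ _ fun ζ _ =>
      memLocalIdeal_mul_left (mem_localRing.1 (isIntegral_mem_localRing (hdint ζ))) (hno ζ))

/-- Every member of a covered block lies below the covering block. -/
theorem below_of_covers (hM : IsPModular p M) (hB : IsPBlock M B) {b : Set (IrrCharacter N)}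
    (hb : IsPBlock M b) {φ₀ : IrrCharacter N} (hφ₀ : φ₀ ∈ b) (h₀ : Below B φ₀)
    {θ : IrrCharacter N} (hθ : θ ∈ b) : Below B θ := by
  classical
  by_contra hnot
  obtain ⟨ζ, hζ⟩ := exists_regInner_res_unit (G := G) hM hb hθ
  have hsame := sameBlock_of_mem hb hθ hφ₀
  have hG : (Nat.card G : ℂ) ≠ 0 := Chars.natCard_ne_zero
  have hS : ∑ ψ ∈ Finset.univ.filter (fun ψ : IrrCharacter N => Below B ψ),
      classInner (resFun N (ζ : G → ℂ)) (ψ : N → ℂ) *
        HeightZero.regInner p (θ : N → ℂ) (ψ : N → ℂ) = 0 := by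
    refine (mul_eq_zero.1 ?_).resolve_left hG
    rw [card_mul_part_eq ζ θ _ fun g ψ ψ' h => below_conjFun_iff g h]
    refine Finset.sum_eq_zero fun ψ hψ => ?_
    rw [sum_regInner_eq_zero hM hB (Finset.mem_filter.1 hψ).2 hnot, mul_zero]
  have hS' : ∑ ψ ∈ Finset.univ.filter (fun ψ : IrrCharacter N => ¬ Below B ψ),
      classInner (resFun N (ζ : G → ℂ)) (ψ : N → ℂ) *
        HeightZero.regInner p (φ₀ : N → ℂ) (ψ : N → ℂ) = 0 := by
    refine (mul_eq_zero.1 ?_).resolve_left hG
    rw [card_mul_part_eq ζ φ₀ _ fun g ψ ψ' h => not_congr (below_conjFun_iff g h)]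
    refine Finset.sum_eq_zero fun ψ hψ => ?_
    have hψ' := (Finset.mem_filter.1 hψ).2
    have h1 : ∀ g : G, HeightZero.regInner p (φ₀ : N → ℂ) (conjFun g (ψ : N → ℂ)) =
        HeightZero.regInner p (ψ : N → ℂ) (conjFun g⁻¹ (φ₀ : N → ℂ)) := by
      intro g
      rw [HeightZero.regInner_comm p (Chars.irr_isCharacter ψ)
        (Clifford.isCharacter_conjFun g⁻¹ (Chars.irr_isCharacter φ₀)),
        ← regInner_conjFun g⁻¹ (φ₀ : N → ℂ) (conjFun g (ψ : N → ℂ)), ← Clifford.conjFun_mul,
        mul_inv_cancel, Clifford.conjFun_one]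
    rw [Finset.sum_congr rfl fun g _ => h1 g,
      Fintype.sum_equiv (Equiv.inv G)
        (fun g : G => HeightZero.regInner p (ψ : N → ℂ) (conjFun g⁻¹ (φ₀ : N → ℂ)))
        (fun g : G => HeightZero.regInner p (ψ : N → ℂ) (conjFun g (φ₀ : N → ℂ))) fun g => rfl,
      sum_regInner_eq_zero hM hB h₀ hψ', mul_zero]
  refine hζ ?_
  rw [regInner_res_eq_sum, ← Finset.sum_filter_add_sum_filter_not Finset.univ
    (fun ψ : IrrCharacter N => Below B ψ), hS, zero_add, Finset.sum_div]
  have h2 : MemLocalIdeal M (∑ ψ ∈ Finset.univ.filter (fun ψ : IrrCharacter N => ¬ Below B ψ),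
      (classInner (resFun N (ζ : G → ℂ)) (ψ : N → ℂ) *
          HeightZero.regInner p (θ : N → ℂ) (ψ : N → ℂ) / (θ : N → ℂ) 1 -
        classInner (resFun N (ζ : G → ℂ)) (ψ : N → ℂ) *
          HeightZero.regInner p (φ₀ : N → ℂ) (ψ : N → ℂ) / (φ₀ : N → ℂ) 1)) := by
    refine memLocalIdeal_sum _ _ fun ψ _ => ?_
    obtain ⟨k, hk⟩ := Chars.isCharacter_classInner_nat
      (φ := resFun N (ζ : G → ℂ)) (Chars.isCharacter_restrict N (Chars.irr_isCharacter ζ))
      (Chars.irr_isCharacter ψ)
    rw [hk, mul_div_assoc, mul_div_assoc, ← mul_sub, ← HeightZero.regPairing_eq,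
      ← HeightZero.regPairing_eq]
    exact memLocalIdeal_mul_left (mem_localRing.1 (natCast_mem_localRing k))
      (HeightZero.regPairing_congr p (Chars.irr_isCharacter ψ) hsame)
  rw [Finset.sum_sub_distrib, ← Finset.sum_div, ← Finset.sum_div, hS', zero_div, sub_zero] at h2
  rw [← Finset.sum_div]
  exact h2

end Cfsg.Agent.Lib.BlockUnion
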