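import Cfsg.Agent.Lib.BlockUnion.Basic
import Cfsg.Agent.Lib.Blocks.Covering
import Cfsg.Agent.Lib.Blocks.DefectCard
import Cfsg.Agent.Lib.Blocks.DefectProps
import Cfsg.Agent.Lib.Blocks.SecondMain
import Cfsg.Agent.Lib.Chars.Ops
import Mathlib

/-!
# Blocks of a quotient group

Defect groups of a block of G/N inside a block of G, and the case of a normal p-subgroup N.
-/

set_option autoImplicit false
set_option linter.unusedSectionVars false

namespace Cfsg.Agent.Lib.BlockUnion

open Cfsg
open Cfsg.Agent.Lib Cfsg.Agent.Lib.Blocks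
open MonoidAlgebra (coeff_sub coeff_mapRingHom coeff_zero)
open scoped ComplexConjugate

universe u

variable {G : Type u} [Group G] [Finite G] (N : Subgroup G) [N.Normal]
  {p : ℕ} [Fact p.Prime] {M : Ideal AlgInt} [M.IsPrime]

theorem index_centralizer_quot_dvd (g : G) :
    (Subgroup.centralizer ({QuotientGroup.mk' N g} : Set (G ⧸ N))).index ∣
      (Subgroup.centralizer ({g} : Set G)).index := by
  refine dvd_trans (Subgroup.index_dvd_of_le ?_)
    (Subgroup.index_map_dvd (f := QuotientGroup.mk' N) _ (QuotientGroup.mk'_surjective N))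
  rintro _ ⟨w, hw, rfl⟩
  rw [Subgroup.mem_centralizer_singleton_iff]
  rw [← map_mul, ← map_mul]
  exact congrArg _ (Subgroup.mem_centralizer_singleton_iff.1 hw)

theorem centralChar_inflate (χ : IrrCharacter (G ⧸ N)) (g : G) :
    ∃ r : ℕ, (Subgroup.centralizer ({g} : Set G)).index =
        r * (Subgroup.centralizer ({QuotientGroup.mk' N g} : Set (G ⧸ N))).index ∧
      centralChar (Chars.inflate N χ : G → ℂ) g =
        (r : ℂ) * centralChar (χ : G ⧸ N → ℂ) (QuotientGroup.mk' N g) := by
  obtain ⟨r, hr⟩ := index_centralizer_quot_dvd N g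
  refine ⟨r, by rw [hr, mul_comm], ?_⟩
  rw [centralChar, centralChar, hr]
  show ((_ * r : ℕ) : ℂ) * (χ : G ⧸ N → ℂ) (QuotientGroup.mk' N g) /
    (χ : G ⧸ N → ℂ) ((1 : G) : G ⧸ N) = _
  rw [QuotientGroup.mk_one, Nat.cast_mul]
  ring

theorem sameBlock_inflate {χ χ' : IrrCharacter (G ⧸ N)}
    (h : SameBlock M (χ : G ⧸ N → ℂ) (χ' : G ⧸ N → ℂ)) :
    SameBlock M (Chars.inflate N χ : G → ℂ) (Chars.inflate N χ' : G → ℂ) := fun g => by
  obtain ⟨r, hr, h1⟩ := centralChar_inflate N χ g
  obtain ⟨r', hr', h2⟩ := centralChar_inflate N χ' g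
  obtain rfl : r = r' := Nat.eq_of_mul_eq_mul_right
    (Nat.pos_of_ne_zero Subgroup.index_ne_zero_of_finite) (hr.symm.trans hr')
  rw [h1, h2, ← mul_sub]
  exact memLocalIdeal_mul_left (mem_localRing.1 (natCast_mem_localRing r)) (h _)

theorem centralChar_mem (χ : IrrCharacter (G ⧸ N)) (x : G ⧸ N) :
    MemLocalRing M (centralChar (χ : G ⧸ N → ℂ) x) :=
  mem_localRing.1 (centralChar_mem_localRing χ x)

/-- A unit value upstairs gives a unit value downstairs, and then the class defect maps onto the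
class defect. -/
theorem unit_of_inflate_unit (hM : IsPModular p M) {χ : IrrCharacter (G ⧸ N)} {g : G}
    (h : ¬ MemLocalIdeal M (centralChar (Chars.inflate N χ : G → ℂ) g)) {D : Subgroup G}
    (hD : IsClassDefect p g D) :
    ¬ MemLocalIdeal M (centralChar (χ : G ⧸ N → ℂ) (QuotientGroup.mk' N g)) ∧
      IsClassDefect p (QuotientGroup.mk' N g) (D.map (QuotientGroup.mk' N)) := by
  have hpp : p.Prime := Fact.out
  obtain ⟨r, hr, h1⟩ := centralChar_inflate N χ g
  rw [h1] at h
  have hdown := fun h2 => h (memLocalIdeal_mul_left (mem_localRing.1 (natCast_mem_localRing r)) h2)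
  have hrp : ¬ p ∣ r := fun hd =>
    h (memLocalIdeal_mul_right ((memLocalIdeal_natCast_iff hM r).2 hd) (centralChar_mem N χ _))
  refine ⟨hdown, hD.1.map _, ?_, ?_⟩
  · rintro _ ⟨w, hw, rfl⟩
    rw [Subgroup.mem_centralizer_singleton_iff, ← map_mul, ← map_mul]
    exact congrArg _ (Subgroup.mem_centralizer_singleton_iff.1 (hD.2.1 hw))
  set C := Subgroup.centralizer ({g} : Set G) with hC
  set Cb := Subgroup.centralizer ({QuotientGroup.mk' N g} : Set (G ⧸ N)) with hCb
  set Db := D.map (QuotientGroup.mk' N) with hDb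
  obtain ⟨m, hm⟩ := IsPGroup.iff_card.1 (hD.1.map (QuotientGroup.mk' N))
  have hle : Db ≤ Cb := by
    rintro _ ⟨w, hw, rfl⟩
    rw [Subgroup.mem_centralizer_singleton_iff, ← map_mul, ← map_mul]
    exact congrArg _ (Subgroup.mem_centralizer_singleton_iff.1 (hD.2.1 hw))
  have hm1 : m ≤ (Nat.card Cb).factorization p :=
    (hpp.pow_dvd_iff_le_factorization Nat.card_pos.ne').1 (hm ▸ Subgroup.card_dvd_of_le hle)
  -- the other inequality
  set φ := (QuotientGroup.mk' N).comp D.subtype with hφ
  have hrange : φ.range = Db := by rw [hφ, MonoidHom.range_comp, Subgroup.range_subtype]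
  have hker : Nat.card φ.ker ∣ Nat.card N := by
    rw [← Subgroup.card_map_of_injective D.subtype_injective]
    refine Subgroup.card_dvd_of_le ?_
    rintro _ ⟨w, hw, rfl⟩
    exact (QuotientGroup.eq_one_iff _).1 hw
  have hcard : Nat.card D = Nat.card φ.ker * Nat.card Db := by
    rw [← Subgroup.card_mul_index φ.ker, Subgroup.index_ker, hrange]
  have e1 : (Nat.card D).factorization p = (Nat.card φ.ker).factorization p + m := by
    rw [hcard, Nat.factorization_mul Nat.card_pos.ne' Nat.card_pos.ne', Finsupp.add_apply, hm,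
      hpp.factorization_pow, Finsupp.single_eq_same]
  have e2 : (Nat.card D).factorization p = (Nat.card C).factorization p := by
    rw [hD.2.2, hpp.factorization_pow, Finsupp.single_eq_same]
  have e3 : (Nat.card φ.ker).factorization p ≤ (Nat.card N).factorization p :=
    (Nat.factorization_le_iff_dvd Nat.card_pos.ne' Nat.card_pos.ne').2 hker p
  have hr0 : r ≠ 0 := fun h0 => hrp (h0 ▸ dvd_zero p)
  have e4 : (Nat.card C).factorization p = (Nat.card N).factorization p +
      (Nat.card Cb).factorization p := by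
    have h2 := congrArg (fun n => n.factorization p) (Subgroup.card_mul_index C)
    have h3 := congrArg (fun n => n.factorization p) (Subgroup.card_mul_index Cb)
    have h4 := congrArg (fun n => n.factorization p) (Subgroup.card_eq_card_quotient_mul_card_subgroup N)
    simp only [hr, Nat.factorization_mul Nat.card_pos.ne'
      (Nat.mul_ne_zero hr0 Subgroup.index_ne_zero_of_finite),
      Nat.factorization_mul hr0 Subgroup.index_ne_zero_of_finite,
      Nat.factorization_mul Nat.card_pos.ne' Subgroup.index_ne_zero_of_finite,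
      Nat.factorization_mul Nat.card_pos.ne' Nat.card_pos.ne',
      Finsupp.add_apply, Nat.factorization_eq_zero_of_not_dvd hrp, zero_add, ← hC, ← hCb]
      at h2 h3 h4
    omega
  rw [hm]
  congr 1
  omega

theorem map_conj_map_mk (D : Subgroup G) (y : G) :
    (D.map (MulAut.conj y).toMonoidHom).map (QuotientGroup.mk' N) =
      (D.map (QuotientGroup.mk' N)).map (MulAut.conj (QuotientGroup.mk' N y)).toMonoidHom := by
  rw [Subgroup.map_map, Subgroup.map_map]
  congr 1

/-- A defect group of a block of G/N inside B lies in the image of one of B. -/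
theorem exists_defectGroup_map_ge (hM : IsPModular p M) {Bbar : Set (IrrCharacter (G ⧸ N))}
    (hBbar : IsPBlock M Bbar) {B : Set (IrrCharacter G)} (hB : IsPBlock M B)
    (hsub : ∀ χ ∈ Bbar, Chars.inflate N χ ∈ B) {Dbar : Subgroup (G ⧸ N)}
    (hDbar : IsDefectGroup p M Bbar Dbar) :
    ∃ P : Subgroup G, IsDefectGroup p M B P ∧ Dbar ≤ P.map (QuotientGroup.mk' N) := by
  obtain ⟨g, hg⟩ := isDefectClass_exists hB
  obtain ⟨D, hD⟩ := exists_isClassDefect (p := p) g
  obtain ⟨χ, hχ⟩ := isPBlock_nonempty hBbar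
  obtain ⟨hω, hDm⟩ := unit_of_inflate_unit N hM (hg.2.2 _ (hsub χ hχ)) hD
  obtain ⟨g1, hg1, hgD1⟩ := isDefectGroup_iff.1 hDbar
  obtain ⟨x, hx⟩ := exists_conj_le_classDefect hM hBbar hg1 hgD1 hχ hω hDm
  obtain ⟨y, rfl⟩ := QuotientGroup.mk'_surjective N x
  exact ⟨_, isDefectGroup_conj (isDefectGroup_iff.2 ⟨g, hg, hD⟩) y,
    hx.trans (map_conj_map_mk N D y).ge⟩

/-- The coefficients of a block are in the ideal off the centralizer of a normal p-subgroup. -/
theorem blockCoeff_mem_ideal_of_not_centralizer (hM : IsPModular p M) (hN : IsPGroup p N)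
    {B : Set (IrrCharacter G)} (hB : IsPBlock M B) {k : G}
    (hk : k ∉ Subgroup.centralizer (N : Set G)) : MemLocalIdeal M (blockCoeff B k) := by
  haveI := charP_residue (M := M) hM
  have htop : (⊤ : Subgroup G) ≤ Subgroup.normalizer (N : Set G) := by
    rw [Subgroup.normalizer_eq_top]
  set f := toF M (⊤ : Subgroup G) (resR M ⊤ (blockIdem M hB) : MonoidAlgebra (localRing M) _) with hf
  set e := toF M (⊤ : Subgroup G)
    (brR M N ⊤ htop (blockIdem M hB) : MonoidAlgebra (localRing M) _) with he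
  have hff : f * f = f := by
    have := toF_brR_mul (H := (⊤ : Subgroup G)) hM (P := (⊥ : Subgroup G)) IsPGroup.of_bot le_top
      (le_normalizer_bot ⊤) (blockIdem M hB) (blockIdem M hB)
    rw [blockIdem_mul_self, MulMemClass.coe_mul, map_mul] at this
    exact this.symm
  have hee : e * e = e := by
    have := toF_brR_mul (H := (⊤ : Subgroup G)) hM (P := N) hN le_top htop (blockIdem M hB)
      (blockIdem M hB)
    rw [blockIdem_mul_self, MulMemClass.coe_mul, map_mul] at this
    exact this.symm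
  have hfc := map_mem_center (residue M) (resR M (⊤ : Subgroup G) (blockIdem M hB)).2
  have hec := map_mem_center (residue M) (brR M N ⊤ htop (blockIdem M hB)).2
  have hcomm : f * e = e * f := (Subalgebra.mem_center_iff.1 hec f)
  have hcub : (f - e) * (f - e) * (f - e) = f - e := by
    calc (f - e) * (f - e) * (f - e)
        = f * f * f - f * f * e - f * e * f + f * e * e - e * f * f + e * f * e + e * e * f
          - e * e * e := by noncomm_ring
      _ = f - e := by
          simp only [hff, hee, ← hcomm]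
          rw [mul_assoc f e f, ← hcomm, ← mul_assoc, hff, mul_assoc f e e, hee]
          abel
  haveI : (N.subgroupOf (⊤ : Subgroup G)).Normal := Subgroup.Normal.subgroupOf ‹N.Normal› _
  have hnil : IsNilpotent (f - e) := by
    refine isNilpotent_of_coeff_centralizer_eq_zero (p := p) (N.subgroupOf (⊤ : Subgroup G))
      (IsPGroup.of_equiv hN (Subgroup.subgroupOfEquivOfLe le_top).symm)
      (Subalgebra.sub_mem _ hfc hec) fun x hx => ?_
    have hx' : (x : G) ∈ Subgroup.centralizer (N : Set G) := Subgroup.mem_centralizer_iff.2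
      fun a ha => congrArg Subtype.val
        (Subgroup.mem_centralizer_iff.1 hx ⟨a, Subgroup.mem_top a⟩ ha)
    have hx1 : (x : G) ∈ Subgroup.centralizer ((⊥ : Subgroup G) : Set G) := by
      simp [Subgroup.mem_centralizer_iff]
    simp only [hf, he, toF, coeff_sub, Finsupp.sub_apply, coeff_mapRingHom, coe_brR, coeff_trunc,
      hx', hx1, if_true, sub_self]
  have hodd : ∀ m : ℕ, (f - e) ^ (2 * m + 1) = f - e := by
    intro m
    induction m with
    | zero => simp
    | succ m ih =>
      rw [show 2 * (m + 1) + 1 = (2 * m + 1) + 2 by ring, pow_add, ih, pow_two, ← mul_assoc, hcub]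
  obtain ⟨n, hn⟩ := hnil
  have h0 : f - e = 0 := by
    rw [← hodd n, show 2 * n + 1 = n + (n + 1) by ring, pow_add, hn, zero_mul]
  have hk1 : k ∈ Subgroup.centralizer ((⊥ : Subgroup G) : Set G) := by
    simp [Subgroup.mem_centralizer_iff]
  have h1 := congrArg (fun z => z.coeff (⟨k, Subgroup.mem_top k⟩ : (⊤ : Subgroup G))) h0
  simp only [hf, he, toF, coeff_sub, Finsupp.sub_apply, coeff_mapRingHom, coe_brR, coeff_trunc,
    hk, hk1, if_true, if_false, map_zero, sub_zero, coeff_zero, Finsupp.coe_zero, Pi.zero_apply,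
    residue_eq_zero_iff, coe_coeff_blockIdem] at h1
  exact h1

/-- Summing the coefficients of B over a coset gives the coefficient of the characters of G/N
inflating into B. -/
theorem sum_coset_blockCoeff [Fintype N] (B : Set (IrrCharacter G)) (g : G) :
    ∑ n : N, blockCoeff B (g * (n : G)) =
      blockCoeff {χ : IrrCharacter (G ⧸ N) | Chars.inflate N χ ∈ B} (QuotientGroup.mk' N g) := by
  classical
  letI := Fintype.ofFinite G
  haveI := Fintype.ofFinite (G ⧸ N)
  set ϑ : G → ℂ := fun k => if k ∈ N then 1 else 0 with hϑ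
  have hcf : IsClassFunction G ϑ := fun a h => by
    have : h * a * h⁻¹ ∈ N ↔ a ∈ N := ⟨fun hh => by
      simpa [mul_assoc] using ‹N.Normal›.conj_mem _ hh h⁻¹, fun hh => ‹N.Normal›.conj_mem a hh h⟩
    simp only [hϑ, this]
  have h := sum_blockCoeff_mul_eq_blockPart B hcf g⁻¹
  have hL : ∑ᶠ k : G, blockCoeff B k * ϑ (k * g⁻¹) = ∑ n : N, blockCoeff B (g * (n : G)) := by
    rw [finsum_eq_sum_of_fintype]
    calc ∑ k : G, blockCoeff B k * ϑ (k * g⁻¹)
        = ∑ k : G, blockCoeff B (g * k) * ϑ k := by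
          refine (Fintype.sum_equiv (Equiv.mulLeft g) _ _ fun k => ?_).symm
          simp only [Equiv.coe_mulLeft]
          rw [hcf k g]
      _ = ∑ n : N, blockCoeff B (g * (n : G)) := by
          simp only [hϑ, mul_ite, mul_one, mul_zero]
          rw [← Finset.sum_filter]
          exact Finset.sum_subtype _ (fun k => by simp) _
  rw [← hL, h]
  simp only [blockPart]
  rw [finsum_mem_eq_toFinset_sum, blockCoeff, finsum_mem_eq_toFinset_sum, Finset.mul_sum]
  have hG : (Nat.card G : ℂ) = (Nat.card (G ⧸ N) : ℂ) * (Nat.card N : ℂ) := by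
    rw [← Nat.cast_mul, ← Subgroup.card_eq_card_quotient_mul_card_subgroup]
  have hN0 : (Nat.card N : ℂ) ≠ 0 := Chars.natCard_ne_zero
  have hinner : ∀ χ : IrrCharacter G, classInner ϑ (χ : G → ℂ) =
      (Nat.card G : ℂ)⁻¹ * conj (∑ n : N, (χ : G → ℂ) n) := by
    intro χ
    rw [classInner, map_sum]
    congr 1
    simp only [hϑ, ite_mul, one_mul, zero_mul]
    rw [← Finset.sum_filter]
    exact Finset.sum_subtype _ (fun k => by simp) _
  refine (Finset.sum_bij_ne_zero (fun χ _ _ => Chars.inflate N χ) ?_ ?_ ?_ ?_).symm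
  · intro χ hχ _
    simpa using hχ
  · intro a _ _ b _ _ hab
    exact Chars.inflate_injective N hab
  · intro χ hχ hne
    have hsum : ∑ n : N, (χ : G → ℂ) n ≠ 0 := fun h0 => hne (by
      rw [show classInner ϑ (χ : G → ℂ) = 0 by rw [hinner, h0, map_zero, mul_zero]]; ring)
    obtain ⟨ψ, hψ⟩ := Chars.exists_irr_quotient N χ fun x hx =>
      Covering.eq_one_of_sum_ne_zero (N := N) χ hsum ⟨x, hx⟩
    have he : Chars.inflate N ψ = χ := Subtype.ext (funext hψ)
    refine ⟨ψ, by simpa [he] using hχ, ?_, he⟩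
    have hg : (ψ : G ⧸ N → ℂ) (QuotientGroup.mk' N g) = (χ : G → ℂ) g := hψ g
    have h1 : (ψ : G ⧸ N → ℂ) 1 = (χ : G → ℂ) 1 := hψ 1
    intro h0
    refine hne ?_
    rw [hg, h1] at h0
    rcases mul_eq_zero.1 h0 with h2 | h2
    · exact absurd h2 (inv_ne_zero Chars.natCard_ne_zero)
    · rcases mul_eq_zero.1 h2 with h3 | h3
      · exact absurd h3 (Chars.irr_apply_one_ne_zero χ)
      · rw [Chars.irr_inv, h3, mul_zero]
  · intro χ _ _
    rw [hinner, hG]
    have h1 : ∀ n : N, (Chars.inflate N χ : G → ℂ) n = (χ : G ⧸ N → ℂ) 1 := fun n => by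
      show (χ : G ⧸ N → ℂ) ((n : G) : G ⧸ N) = _
      rw [(QuotientGroup.eq_one_iff _).2 n.2]
    rw [Finset.sum_congr rfl fun n _ => h1 n, Finset.sum_const, Finset.card_univ, nsmul_eq_mul,
      Chars.irr_inv, map_mul, map_natCast, ← Nat.card_eq_fintype_card]
    obtain ⟨k, hk⟩ : ∃ k : ℕ, (χ : G ⧸ N → ℂ) 1 = k :=
      ⟨_, (HeightZero.charDegree_eq χ).1.symm⟩
    show _ = _ * conj ((χ : G ⧸ N → ℂ) (QuotientGroup.mk' N g))
    rw [hk, map_natCast]
    field_simp

/-- For a normal p-subgroup some block of G/N inside B has the image defect groups. -/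
theorem exists_block_quot (hM : IsPModular p M) (hN : IsPGroup p N) {B : Set (IrrCharacter G)}
    (hB : IsPBlock M B) :
    ∃ Bbar : Set (IrrCharacter (G ⧸ N)), IsPBlock M Bbar ∧ (∀ χ ∈ Bbar, Chars.inflate N χ ∈ B) ∧
      ∀ Dbar : Subgroup (G ⧸ N), IsDefectGroup p M Bbar Dbar ↔
        ∃ P : Subgroup G, IsDefectGroup p M B P ∧ Dbar = P.map (QuotientGroup.mk' N) := by
  classical
  haveI := Fintype.ofFinite N
  have hpp : p.Prime := Fact.out
  obtain ⟨g, hg⟩ := isDefectClass_exists hB
  obtain ⟨D, hD⟩ := exists_isClassDefect (p := p) g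
  have hreg := isDefectClass_pRegular hM hB hg
  have hgC : g ∈ Subgroup.centralizer (N : Set G) := by
    by_contra h
    exact hg.2.1 (blockCoeff_mem_ideal_of_not_centralizer N hM hN hB h)
  -- the coefficient of the image is a unit
  have hunit : ¬ MemLocalIdeal M (∑ n : N, blockCoeff B (g * (n : G))) := by
    rw [← Finset.sum_erase_add _ _ (Finset.mem_univ (1 : N)), OneMemClass.coe_one, mul_one]
    intro h
    refine hg.2.1 ?_
    have hrest : MemLocalIdeal M (∑ n ∈ Finset.univ.erase (1 : N), blockCoeff B (g * (n : G))) := by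
      refine memLocalIdeal_sum _ _ fun n hn => ?_
      have hn1 : n ≠ 1 := (Finset.mem_erase.1 hn).1
      by_cases hc : g * (n : G) ∈ Subgroup.centralizer (N : Set G)
      · obtain ⟨k, hk⟩ := IsPGroup.iff_orderOf.1 hN n
        rw [← Subgroup.orderOf_coe] at hk
        have hk0 : k ≠ 0 := by
          rintro rfl
          rw [pow_zero, orderOf_eq_one_iff] at hk
          exact hn1 (Subtype.ext hk)
        have hcomm : Commute g (n : G) := (Subgroup.mem_centralizer_iff.1 hgC n n.2).symm
        rw [blockCoeff_eq_zero_of_pSingular hM hB (g := g * (n : G))]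
        · exact memLocalIdeal_zero
        · rw [hcomm.orderOf_mul_eq_mul_orderOf_of_coprime, hk]
          · exact dvd_mul_of_dvd_right (dvd_pow_self p hk0) _
          · rw [hk]
            exact ((hpp.coprime_iff_not_dvd.2 hreg).symm).pow_right k
      · exact blockCoeff_mem_ideal_of_not_centralizer N hM hN hB hc
    simpa using memLocalIdeal_sub h hrest
  rw [sum_coset_blockCoeff] at hunit
  obtain ⟨χ, hχ, hχu⟩ := exists_block_unit
    {χ : IrrCharacter (G ⧸ N) | Chars.inflate N χ ∈ B} (fun φ hφ φ' h =>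
    mem_of_sameBlock hB hφ (sameBlock_inflate N h)) hunit
  refine ⟨blockOf M (χ : G ⧸ N → ℂ), isPBlock_blockOf χ, fun φ hφ =>
    mem_of_sameBlock hB hχ (sameBlock_inflate N hφ), ?_⟩
  set Bbar := blockOf M (χ : G ⧸ N → ℂ) with hBb
  have hBbar : IsPBlock M Bbar := isPBlock_blockOf χ
  obtain ⟨hω, hDm⟩ := unit_of_inflate_unit N hM (hg.2.2 _ hχ) hD
  have hclass : IsDefectClass M Bbar (QuotientGroup.mk' N g) := by
    refine ⟨memLocalRing_blockCoeff hBbar _, hχu, fun φ hφ h => hω ?_⟩
    have := memLocalIdeal_add (sameBlock_of_mem hBbar (mem_blockOf_self χ) hφ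
      (QuotientGroup.mk' N g)) h
    simpa using this
  have hDbar : IsDefectGroup p M Bbar (D.map (QuotientGroup.mk' N)) :=
    isDefectGroup_iff.2 ⟨_, hclass, hDm⟩
  have hDg : IsDefectGroup p M B D := isDefectGroup_iff.2 ⟨g, hg, hD⟩
  intro Db
  constructor
  · intro h
    obtain ⟨x, hx⟩ := isDefectGroup_conjugate hM hBbar hDbar h
    obtain ⟨y, rfl⟩ := QuotientGroup.mk'_surjective N x
    exact ⟨_, isDefectGroup_conj hDg y, hx.trans (map_conj_map_mk N D y).symm⟩
  · rintro ⟨P, hP, rfl⟩
    obtain ⟨y, rfl⟩ := isDefectGroup_conjugate hM hB hDg hP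
    rw [map_conj_map_mk]
    exact isDefectGroup_conj hDbar _

end Cfsg.Agent.Lib.BlockUnion
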