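import Cfsg.Agent.Lib.BlockUnion.Stabilizer
import Cfsg.Agent.Lib.BlockUnion.Quotient
import Cfsg.Agent.Lib.BrauerMap.BlockConj
import Mathlib

/-!
# The block over a block with defect group P of a subgroup containing P and its centralizer

For a normal p-subgroup P and a normal subgroup K containing P and its centralizer, a block b of
K with defect group P lies under exactly one block B, it induces B, and the defect groups of B
have order the order of P times the p-part of the index of K in the stabilizer of b.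
-/

set_option autoImplicit false
set_option linter.unusedSectionVars false

namespace Cfsg.Agent.Lib.BlockUnion.Extended

open Cfsg
open Cfsg.Agent.Lib Cfsg.Agent.Lib.Blocks
open Cfsg.Agent.Lib.BlockUnion.Stab
open Cfsg.Agent.Lib.Clifford (conjFun resFun resTo)
open scoped ComplexConjugate

universe u

variable {G : Type u} [Group G] [Fintype G] {p : ℕ} [Fact p.Prime] {M : Ideal AlgInt} [M.IsPrime]
  {K : Subgroup G} [hK : K.Normal] [Fintype K] {P : Subgroup G} [P.Normal]
  {b : Set (IrrCharacter K)} {T : Subgroup G} [Fintype T]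

/-- Outside the centralizer of a normal p-subgroup central characters vanish modulo M. -/
theorem centralChar_mem_ideal (hM : IsPModular p M) (hP : IsPGroup p P) (χ : IrrCharacter G)
    {g : G} (hg : g ∉ Subgroup.centralizer (P : Set G)) :
    MemLocalIdeal M (centralChar (χ : G → ℂ) g) := by
  classical
  refine (omegaBar_classSumR_eq_zero_iff χ g).1 ?_
  refine omegaBar_eq_zero_of_coeff_centralizer hM P hP χ fun x hx => ?_
  simp only [classSumR, coeff_classSum]
  rw [if_neg fun h => hg ?_, map_zero]
  obtain ⟨d, rfl⟩ := isConj_iff.1 h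
  have hn' : (Subgroup.centralizer (P : Set G)).Normal := inferInstance
  simpa [mul_assoc] using hn'.conj_mem _ hx d⁻¹

theorem inducedCentralChar_eq_zero_of_not_mem (ξ : K → ℂ) {g : G} (hg : g ∉ K) :
    inducedCentralChar K ξ g = 0 := by
  classical
  rw [Covering.inducedCentralChar_eq_sum_indicator]
  refine Finset.sum_eq_zero fun h _ => ?_
  have : ¬ IsConj g (h : G) := fun hc => by
    obtain ⟨c, hc⟩ := isConj_iff.1 hc.symm
    exact hg (hc ▸ hK.conj_mem (h : G) h.2 c)
  simp only [Chars.classIndicator, if_neg this, zero_mul, zero_div]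

/-- Two characters over b have congruent central characters, also with the induced one. -/
theorem congr_over (hM : IsPModular p M) (hP : IsPGroup p P)
    (hC : Subgroup.centralizer (P : Set G) ≤ K) (hb : IsPBlock M b) {χ : IrrCharacter G}
    {θ : IrrCharacter K} (hθ : θ ∈ b) (hcon : classInner (resFun K (χ : G → ℂ)) (θ : K → ℂ) ≠ 0)
    {θ' : IrrCharacter K} (hθ' : θ' ∈ b) (g : G) :
    MemLocalIdeal M (inducedCentralChar K (θ' : K → ℂ) g - centralChar (χ : G → ℂ) g) := by
  by_cases hg : g ∈ K
  · rw [show centralChar (χ : G → ℂ) g = inducedCentralChar K (θ : K → ℂ) g from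
      Covering.centralChar_eq_inducedCentralChar χ θ hcon ⟨g, hg⟩]
    exact inducedCentralChar_congr' K (sameBlock_of_mem hb hθ' hθ) g
  · rw [inducedCentralChar_eq_zero_of_not_mem _ hg, zero_sub]
    exact memLocalIdeal_neg (centralChar_mem_ideal hM hP χ fun h => hg (hC h))

theorem sameBlock_over (hM : IsPModular p M) (hP : IsPGroup p P)
    (hC : Subgroup.centralizer (P : Set G) ≤ K) (hb : IsPBlock M b) {χ χ' : IrrCharacter G}
    {θ θ' : IrrCharacter K} (hθ : θ ∈ b) (hθ' : θ' ∈ b)
    (hcon : classInner (resFun K (χ : G → ℂ)) (θ : K → ℂ) ≠ 0)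
    (hcon' : classInner (resFun K (χ' : G → ℂ)) (θ' : K → ℂ) ≠ 0) :
    SameBlock M (χ : G → ℂ) (χ' : G → ℂ) := fun g => by
  have h1 := congr_over hM hP hC hb hθ hcon hθ g
  have h2 := congr_over hM hP hC hb hθ' hcon' hθ g
  simpa using memLocalIdeal_sub h2 h1

/-- Two functions with the same values on all central characters are equal. -/
theorem eq_of_sum_mul_eq {H : Type u} [Group H] [Fintype H] {f f' : H → ℂ}
    (hf : IsClassFunction H f) (hf' : IsClassFunction H f')
    (h : ∀ ψ : IrrCharacter H, ∑ t, f t * (ψ : H → ℂ) t = ∑ t, f' t * (ψ : H → ℂ) t) (t : H) :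
    f t = f' t := by
  rw [Chars.isClassFunction_apply_eq_sum_classInner hf t,
    Chars.isClassFunction_apply_eq_sum_classInner hf' t]
  refine Finset.sum_congr rfl fun φ _ => ?_
  congr 1
  have := h (Chars.irrConj φ)
  simp only [Chars.irrConj_apply] at this
  simp only [classInner, this]

/-- For a T-invariant weight, a character of T and its constituents on K evaluate equally. -/
theorem sum_weight_eq (hKT : K ≤ T) (f : T → ℂ) (hf : IsClassFunction T f)
    (hsupp : ∀ t : T, (t : G) ∉ K → f t = 0) (ψ : IrrCharacter T) (θ : IrrCharacter K)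
    (hcon : mult hKT (ψ : T → ℂ) θ ≠ 0) :
    ∑ t : T, f t * (ψ : T → ℂ) t / (ψ : T → ℂ) 1 =
      ∑ k : K, f ⟨(k : G), hKT k.2⟩ * (θ : K → ℂ) k / (θ : K → ℂ) 1 := by
  classical
  set fK : K → ℂ := fun k => f ⟨(k : G), hKT k.2⟩ with hfK
  have hfKc : IsClassFunction K fK := fun x h => by
    simp only [hfK]
    rw [← hf ⟨(x : G), hKT x.2⟩ ⟨(h : G), hKT h.2⟩]
    congr 1
  have hcentre : ∀ {L : Type u} [Group L] [Fintype L] (φ : L → ℂ), IsClassFunction L φ →
      ∀ (η : IrrCharacter L) (y : L), ∑ k : L, φ k * (η : L → ℂ) (k * y) =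
        (∑ k : L, φ k * (η : L → ℂ) k / (η : L → ℂ) 1) * (η : L → ℂ) y := by
    intro L _ _ φ hφ η y
    have hz : ofFun φ ∈ Subalgebra.center ℂ (MonoidAlgebra ℂ L) := by
      rw [mem_center_iff]
      intro g h
      simp only [coeff_ofFun]
      exact hφ g h
    have h := omega_mul η hz (MonoidAlgebra.single y 1)
    rw [omega_single, one_mul, omega_eq_sum (η : L → ℂ) (ofFun φ * MonoidAlgebra.single y 1),
      omega_eq_sum (η : L → ℂ) (ofFun φ)] at h
    simp only [MonoidAlgebra.coeff_mul_single_apply, coeff_ofFun, mul_one] at h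
    rw [← Equiv.sum_comp (Equiv.mulRight y)] at h
    simp only [Equiv.coe_mulRight, mul_inv_cancel_right, mul_div_assoc', ← Finset.sum_div] at h
    have hne := Chars.irr_apply_one_ne_zero η
    rw [← Finset.sum_div]
    field_simp at h ⊢
    linear_combination h
  set v := ∑ t : T, f t * (ψ : T → ℂ) t / (ψ : T → ℂ) 1 with hv
  set w : IrrCharacter K → ℂ := fun φ => ∑ k : K, fK k * (φ : K → ℂ) k / (φ : K → ℂ) 1 with hw
  set r := resTo hKT (ψ : T → ℂ) with hr
  have hrexp := Chars.isCharacter_eq_sum_classInner (φ := r)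
    (Clifford.isCharacter_resTo hKT (Chars.irr_isCharacter ψ))
  have hL : ∀ m : K, ∑ k : K, fK k * r (k * m) = v * r m := by
    intro m
    refine Eq.trans ?_ (hcentre f hf ψ ⟨(m : G), hKT m.2⟩)
    refine Finset.sum_bij_ne_zero (fun (n : K) _ _ => (⟨(n : G), hKT n.2⟩ : T))
      (fun _ _ _ => Finset.mem_univ _) (fun a _ _ c _ _ h => ?_) (fun t _ ht => ?_) fun n _ _ => ?_
    · exact Subtype.ext (congrArg (fun x : T => (x : G)) h)
    · have htN : (t : G) ∈ K := by
        by_contra h
        exact ht (by simp [hsupp t h])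
      refine ⟨⟨(t : G), htN⟩, Finset.mem_univ _, ?_, rfl⟩
      exact ht
    · rfl
  have hR : ∀ m : K, ∑ k : K, fK k * r (k * m) =
      ∑ φ : IrrCharacter K, classInner r (φ : K → ℂ) * w φ * (φ : K → ℂ) m := by
    intro m
    conv_lhs => rw [hrexp]
    simp only [Finset.sum_apply, Pi.smul_apply, smul_eq_mul, Finset.mul_sum]
    rw [Finset.sum_comm]
    refine Finset.sum_congr rfl fun φ _ => ?_
    rw [mul_assoc, hw]
    simp only
    rw [← hcentre fK hfKc φ m, Finset.mul_sum]
    exact Finset.sum_congr rfl fun k _ => by ring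
  have hfun : (fun m => v * r m) =
      ∑ φ : IrrCharacter K, (classInner r (φ : K → ℂ) * w φ) • (φ : K → ℂ) := by
    funext m
    rw [← hL m, hR m]
    simp
  have h1 := congrArg (fun φ => classInner φ (θ : K → ℂ)) hfun
  simp only [Chars.classInner_sum_left, Chars.classInner_smul_left, Chars.classInner_irr, mul_ite,
    mul_one, mul_zero, Finset.sum_ite_eq', Finset.mem_univ, if_true] at h1
  rw [show (fun m => v * r m) = v • r from rfl, Chars.classInner_smul_left] at h1
  exact mul_left_cancel₀ hcon (by rw [mul_comm]; exact h1)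

/-- The one block over b, with the size of its defect groups. -/
theorem exists_block (hM : IsPModular p M) (hP : IsPGroup p P) (hPK : P ≤ K)
    (hC : Subgroup.centralizer (P : Set G) ≤ K) (hb : IsPBlock M b)
    (hbd : p ^ blockDefect p b = Nat.card P) (hT : IsStab T b) (hKT : K ≤ T) :
    ∃ B : Set (IrrCharacter G), IsInducedBlock M K b B ∧
      ∃ D : Subgroup G, IsDefectGroup p M B D ∧ P ≤ D ∧
        Nat.card D = Nat.card P * p ^ (K.relIndex T).factorization p := by
  classical
  have hpp : p.Prime := Fact.out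
  obtain ⟨θ₀, hθ₀⟩ := isPBlock_nonempty hb
  obtain ⟨χ₀, hcon⟩ : ∃ χ : IrrCharacter G,
      classInner (resFun K (χ : G → ℂ)) (θ₀ : K → ℂ) ≠ 0 := by
    by_contra! hno
    have hI := Chars.isCharacter_indFun K (Chars.irr_isCharacter θ₀)
    have h0 := congrFun (Chars.isCharacter_eq_sum_classInner hI) 1
    rw [Finset.sum_apply, Finset.sum_eq_zero, Chars.indFun_one_eq] at h0
    · exact mul_ne_zero (Nat.cast_ne_zero.2 K.index_ne_zero_of_finite)
        (Chars.irr_apply_one_ne_zero θ₀) h0
    · intro χ _
      have h2 : classInner (indFun K (θ₀ : K → ℂ)) (χ : G → ℂ) = 0 := by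
        rw [Chars.classInner_indFun_left K _ _ (Chars.irr_isClassFunction χ),
          ← Chars.conj_classInner,
          show classInner (fun h : K => (χ : G → ℂ) h) (θ₀ : K → ℂ) = 0 from hno χ, map_zero]
      rw [h2, zero_smul, Pi.zero_apply]
  set B := blockOf M (χ₀ : G → ℂ) with hBdef
  have hB : IsPBlock M B := isPBlock_blockOf χ₀
  have hindK : IsInducedBlock M K b B := ⟨hb, hB, fun ξ hξ χ hχ g => by
    have h1 := congr_over hM hP hC hb hθ₀ hcon hξ g
    have h2 : MemLocalIdeal M (centralChar (χ₀ : G → ℂ) g - centralChar (χ : G → ℂ) g) := hχ g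
    simpa using memLocalIdeal_add h1 h2⟩
  refine ⟨B, hindK, ?_⟩
  obtain ⟨ψ₀, h₀, hψ₀⟩ := exists_ind_eq hb hT hKT hθ₀ hcon
  set B' := blockOf M (ψ₀ : T → ℂ) with hB'def
  have hB' : IsPBlock M B' := isPBlock_blockOf ψ₀
  have hindT : IsInducedBlock M T B' B := by
    have := isInducedBlock_ind hb hT hKT hB' (mem_blockOf_self ψ₀) h₀
    rwa [hψ₀] at this
  have hmem : ∀ ψ : IrrCharacter T, ψ ∈ B' ↔ Covers hKT b (ψ : T → ℂ) := by
    intro ψ
    refine ⟨fun h => covers_of_sameBlock hb hT hKT h₀ h, fun h => ?_⟩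
    obtain ⟨θ, hθ, hne⟩ := covers_ind hb hT hKT h
    refine sameBlock_of_sameBlock_ind hb hT hKT h₀ h ?_
    rw [hψ₀]
    exact sameBlock_over hM hP hC hb hθ₀ hθ hcon hne
  have hcoef : ∀ t : T, blockCoeff B' t = stabWeight b T t := by
    intro t
    refine eq_of_sum_mul_eq (fun x y => blockCoeff_conj B' x y) (isClassFunction_stabWeight hT)
      (fun ψ => ?_) t
    have hne := Chars.irr_apply_one_ne_zero ψ
    have h5 := omega_idemC B' ψ
    rw [omega_eq_sum] at h5
    simp only [idemC, coeff_ofFun, mul_div_assoc', ← Finset.sum_div] at h5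
    rw [div_eq_iff hne] at h5
    rw [h5]
    by_cases hc : Covers hKT b (ψ : T → ℂ)
    · have := stabValue_of_covers hT hKT hc
      rw [stabValue, ← Finset.sum_div, div_eq_iff hne] at this
      rw [if_pos ((hmem ψ).2 hc), this]
    · have := stabValue_of_not_covers hT hKT hc
      rw [stabValue, ← Finset.sum_div, div_eq_iff hne] at this
      rw [if_neg (fun h => hc ((hmem ψ).1 h)), this]
  -- a class of T inside K with unit coefficient and unit value
  haveI : Fintype (ConjClasses T) := Fintype.ofFinite _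
  haveI : Fintype (ConjClasses K) := Fintype.ofFinite _
  set ι : K → T := fun k => ⟨(k : G), hKT k.2⟩ with hι
  have hone : ∑ k : K, blockCoeff b k * (θ₀ : K → ℂ) k / (θ₀ : K → ℂ) 1 = 1 := by
    have := omega_idemC b θ₀
    rw [omega_eq_sum, if_pos hθ₀] at this
    simp only [idemC, coeff_ofFun] at this
    rw [← this]
    exact Finset.sum_congr rfl fun k _ => (mul_div_assoc _ _ _)
  rw [← Finset.sum_fiberwise Finset.univ (fun k : K => ConjClasses.mk (ι k))] at hone
  obtain ⟨C, hC'⟩ : ∃ C : ConjClasses T, ¬ MemLocalIdeal M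
      (∑ k ∈ Finset.univ.filter (fun k : K => ConjClasses.mk (ι k) = C),
        blockCoeff b k * (θ₀ : K → ℂ) k / (θ₀ : K → ℂ) 1) := by
    by_contra hno
    push Not at hno
    exact not_memLocalIdeal_one (hone ▸ memLocalIdeal_sum _ _ fun C _ => hno C)
  obtain ⟨k₀, hk₀⟩ : ∃ k₀ : K, ConjClasses.mk (ι k₀) = C := by
    by_contra! hno
    refine hC' ?_
    rw [Finset.filter_false_of_mem fun k _ => hno k, Finset.sum_empty]
    exact memLocalIdeal_zero
  set f : T → ℂ := Chars.classIndicator (ι k₀) with hf
  have hfc : IsClassFunction T f := Chars.isClassFunction_classIndicator _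
  have hfsupp : ∀ t : T, (t : G) ∉ K → f t = 0 := by
    intro t ht
    rw [hf, Chars.classIndicator, if_neg]
    intro hc
    obtain ⟨c, hc⟩ := isConj_iff.1 hc
    refine ht ?_
    rw [← hc]
    exact hK.conj_mem (k₀ : G) k₀.2 (c : G)
  have hfK : ∀ k : K, f (ι k) = if ConjClasses.mk (ι k) = C then 1 else 0 := by
    intro k
    simp only [hf, Chars.classIndicator, ← hk₀, ConjClasses.mk_eq_mk_iff_isConj]
    by_cases hc : IsConj (ι k₀) (ι k)
    · rw [if_pos hc, if_pos hc.symm]
    · rw [if_neg hc, if_neg fun h => hc h.symm]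
  have hsplit : ∑ k ∈ Finset.univ.filter (fun k : K => ConjClasses.mk (ι k) = C),
      blockCoeff b k * (θ₀ : K → ℂ) k / (θ₀ : K → ℂ) 1 =
      blockCoeff b k₀ * ∑ k : K, f (ι k) * (θ₀ : K → ℂ) k / (θ₀ : K → ℂ) 1 := by
    simp only [hfK, ite_mul, one_mul, zero_mul, ite_div, zero_div]
    rw [← Finset.sum_filter, Finset.mul_sum]
    refine Finset.sum_congr rfl fun k hk => ?_
    rw [Finset.mem_filter, ← hk₀] at hk
    obtain ⟨c, hc⟩ := isConj_iff.1 (ConjClasses.mk_eq_mk_iff_isConj.1 hk.2.symm)
    have hkk : MulAut.conjNormal (c : G) k₀ = k := Subtype.ext (by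
      rw [MulAut.conjNormal_apply]
      exact congrArg (fun x : T => (x : G)) hc)
    rw [← hkk, blockCoeff_stable hT c.2, mul_div_assoc]
  rw [hsplit] at hC'
  have hekR := memLocalRing_blockCoeff hb k₀ (M := M)
  have he : ¬ MemLocalIdeal M (blockCoeff b k₀) := fun h => hC' (memLocalIdeal_mul_right h (by
    simp only [hfK]
    refine mem_localRing.1 ?_
    have hcf : IsClassFunction K (fun k => f (ι k)) := fun x y => hfc (ι x) (ι y)
    have := HeightZero.sum_mul_div_eq_sum_centralChar hcf (Chars.irr_isClassFunction θ₀)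
    simp only [hfK] at this
    rw [this]
    refine sum_mem fun D _ => mul_mem ?_ (mem_localRing.2 (centralChar_mem_localRing θ₀ _))
    split_ifs
    · exact one_mem _
    · exact zero_mem _))
  have hval : ¬ MemLocalIdeal M (∑ k : K, f (ι k) * (θ₀ : K → ℂ) k / (θ₀ : K → ℂ) 1) :=
    fun h => hC' (memLocalIdeal_mul_left hekR h)
  -- it is a defect class of the block of T
  have hclassT : IsDefectClass M B' (ι k₀) := by
    refine ⟨memLocalRing_blockCoeff hB' _, ?_, fun ψ hψ => ?_⟩
    · rw [hcoef]
      simp only [stabWeight, hι, dif_pos k₀.2, Subtype.coe_eta]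
      exact he
    · obtain ⟨θ, hθ, hne⟩ := (hmem ψ).1 hψ
      rw [Covering.centralChar_eq_sum_indicator (Chars.irr_isClassFunction ψ),
        sum_weight_eq hKT f hfc hfsupp ψ θ hne]
      intro h
      refine hval ?_
      have hcong := HeightZero.eval_congr_self (f := fun k : K => f (ι k))
        (fun x y => hfc (ι x) (ι y)) (fun k => ?_) (Chars.irr_isClassFunction θ₀)
        (Chars.irr_isClassFunction θ) (sameBlock_of_mem hb hθ₀ hθ) (M := M)
      · simpa [hι] using memLocalIdeal_add hcong h
      · simp only [hf, Chars.classIndicator]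
        split_ifs
        · exact mem_localRing.1 (one_mem _)
        · exact mem_localRing.1 (zero_mem _)
  -- the class of K is a defect class of b
  set D' : Finset (ConjClasses K) :=
    Finset.univ.filter (fun D => ConjClasses.mk (ι (Quotient.out D)) = C) with hD'
  have hconst : ∀ D ∈ D', MemLocalIdeal M
      (centralChar (θ₀ : K → ℂ) (Quotient.out D) - centralChar (θ₀ : K → ℂ) k₀) ∧
      (Subgroup.centralizer ({Quotient.out D} : Set K)).index =
        (Subgroup.centralizer ({k₀} : Set K)).index := by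
    intro D hD
    rw [hD', Finset.mem_filter, ← hk₀] at hD
    obtain ⟨c, hc⟩ := isConj_iff.1 (ConjClasses.mk_eq_mk_iff_isConj.1 hD.2.symm)
    have hkk : MulAut.conjNormal (c : G) k₀ = Quotient.out D := Subtype.ext (by
      rw [MulAut.conjNormal_apply]
      exact congrArg (fun x : T => (x : G)) hc)
    set e : K ≃* K := MulAut.conjNormal (c : G) with he'
    have hidx : (Subgroup.centralizer ({e k₀} : Set K)).index =
        (Subgroup.centralizer ({k₀} : Set K)).index := by
      rw [← natCard_isConj, ← natCard_isConj]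
      refine (Nat.card_congr (e.toEquiv.subtypeEquiv fun y => ?_)).symm
      exact ⟨fun h => e.toMonoidHom.map_isConj h,
        fun h => by simpa using e.symm.toMonoidHom.map_isConj h⟩
    refine ⟨?_, by rw [← hkk]; exact hidx⟩
    have hmove := conj_mem_of_mem hT c.2 hθ₀
    have h2 : centralChar (θ₀ : K → ℂ) (e k₀) = centralChar (conjFun (c : G) (θ₀ : K → ℂ)) k₀ := by
      rw [Covering.centralChar_conjFun]
    rw [← hkk, h2]
    exact sameBlock_of_mem hb hmove hθ₀ k₀
  have hω : ∑ k : K, f (ι k) * (θ₀ : K → ℂ) k / (θ₀ : K → ℂ) 1 =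
      ∑ D ∈ D', centralChar (θ₀ : K → ℂ) (Quotient.out D) := by
    rw [HeightZero.sum_mul_div_eq_sum_centralChar (f := fun k : K => f (ι k))
      (fun x y => hfc (ι x) (ι y)) (Chars.irr_isClassFunction θ₀), hD', Finset.sum_filter]
    refine Finset.sum_congr rfl fun D _ => ?_
    rw [hfK]
    split_ifs <;> simp
  have hrsum : MemLocalIdeal M (∑ k : K, f (ι k) * (θ₀ : K → ℂ) k / (θ₀ : K → ℂ) 1 -
      (D'.card : ℂ) * centralChar (θ₀ : K → ℂ) k₀) := by
    rw [hω, ← nsmul_eq_mul, ← Finset.sum_const, ← Finset.sum_sub_distrib]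
    exact memLocalIdeal_sum _ _ fun D hD => (hconst D hD).1
  have hωk : MemLocalRing M (centralChar (θ₀ : K → ℂ) k₀) :=
    mem_localRing.1 (centralChar_mem_localRing θ₀ k₀)
  have hrp : ¬ p ∣ D'.card := fun hd => hval (by
    simpa using memLocalIdeal_add hrsum
      (memLocalIdeal_mul_right ((memLocalIdeal_natCast_iff hM D'.card).2 hd) hωk))
  have hωunit : ¬ MemLocalIdeal M (centralChar (θ₀ : K → ℂ) k₀) := fun h => hval (by
    simpa using memLocalIdeal_add hrsum
      (memLocalIdeal_mul_left (mem_localRing.1 (natCast_mem_localRing D'.card)) h))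
  have hclassK : IsDefectClass M b k₀ := ⟨hekR, he, fun φ hφ h => hωunit (by
    simpa using memLocalIdeal_add (sameBlock_of_mem hb hθ₀ hφ k₀) h)⟩
  obtain ⟨E, hE⟩ := exists_isClassDefect (p := p) k₀
  have hEcard : Nat.card E = Nat.card P := by
    rw [card_defectGroup hM hb (isDefectGroup_iff.2 ⟨k₀, hclassK, hE⟩), hbd]
  -- sizes of the classes
  have hsize : (Subgroup.centralizer ({ι k₀} : Set T)).index =
      D'.card * (Subgroup.centralizer ({k₀} : Set K)).index := by
    have hg : ∀ D : ConjClasses K, Nat.card {k : K // IsConj (Quotient.out D) k} =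
        (Subgroup.centralizer ({Quotient.out D} : Set K)).index := fun D => natCard_isConj _
    have h1 : Nat.card {t : T // IsConj (ι k₀) t} =
        (Finset.univ.filter (fun k : K => ConjClasses.mk (ι k) = C)).card := by
      rw [← Fintype.card_subtype, ← Nat.card_eq_fintype_card]
      symm
      refine Nat.card_eq_of_bijective (fun k => (⟨ι k.1,
        (ConjClasses.mk_eq_mk_iff_isConj.1 (k.2.trans hk₀.symm)).symm⟩ :
          {t : T // IsConj (ι k₀) t})) ⟨?_, ?_⟩
      · rintro ⟨a, _⟩ ⟨c, _⟩ h
        have := congrArg (fun x : {t : T // IsConj (ι k₀) t} => ((x.1 : T) : G)) h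
        exact Subtype.ext (Subtype.ext this)
      · rintro ⟨t, ht⟩
        have htK : (t : G) ∈ K := by
          by_contra h
          have := hfsupp t h
          rw [hf, Chars.classIndicator, if_pos ht] at this
          exact one_ne_zero this
        refine ⟨⟨⟨(t : G), htK⟩, ?_⟩, rfl⟩
        rw [← hk₀]
        exact (ConjClasses.mk_eq_mk_iff_isConj.2 ht).symm
    have h2 : (Finset.univ.filter (fun k : K => ConjClasses.mk (ι k) = C)).card =
        ∑ D ∈ D', (Finset.univ.filter (fun k : K => ConjClasses.mk k = D)).card := by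
      rw [← Finset.card_biUnion]
      · congr 1
        ext k
        simp only [hD', Finset.mem_filter, Finset.mem_univ, true_and, Finset.mem_biUnion]
        have hcl : ConjClasses.mk (ι (Quotient.out (ConjClasses.mk k))) = ConjClasses.mk (ι k) := by
          rw [ConjClasses.mk_eq_mk_iff_isConj]
          exact (Subgroup.inclusion hKT).map_isConj
            (ConjClasses.mk_eq_mk_iff_isConj.1 (Quotient.out_eq (ConjClasses.mk k)))
        constructor
        · intro h
          exact ⟨ConjClasses.mk k, hcl.trans h, rfl⟩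
        · rintro ⟨D, hD, rfl⟩
          exact hcl.symm.trans hD
      · intro a _ c _ hac
        simp only [Finset.disjoint_left, Finset.mem_filter, Finset.mem_univ, true_and]
        exact fun k h1 h2 => hac (h1.symm.trans h2)
    rw [← natCard_isConj, h1, h2, Finset.sum_const_nat (m := (Subgroup.centralizer ({k₀} : Set K)).index)]
    intro D hD
    rw [← (hconst D hD).2, ← natCard_isConj, ← Fintype.card_subtype, ← Nat.card_eq_fintype_card]
    refine Nat.card_congr (Equiv.subtypeEquivRight fun k => ?_)
    rw [← ConjClasses.mk_eq_mk_iff_isConj,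
      show ConjClasses.mk (Quotient.out D) = D from Quotient.out_eq D]
    exact eq_comm
  obtain ⟨DT, hDT⟩ := exists_isClassDefect (p := p) (ι k₀)
  have hDTgrp : IsDefectGroup p M B' DT := isDefectGroup_iff.2 ⟨_, hclassT, hDT⟩
  refine ⟨DT.map T.subtype, isDefectGroup_map hM hb hT hKT hindT (mem_blockOf_self ψ₀) h₀ hDTgrp,
    ?_, ?_⟩
  · haveI : (P.subgroupOf T).Normal := Subgroup.Normal.subgroupOf ‹P.Normal› T
    have hle := normal_le_defectGroup hM
      (IsPGroup.of_equiv hP (Subgroup.subgroupOfEquivOfLe (hPK.trans hKT)).symm) hB' hDTgrp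
    exact (Subgroup.map_subgroupOf_eq_of_le (hPK.trans hKT)).ge.trans (Subgroup.map_mono hle)
  · rw [Subgroup.card_map_of_injective T.subtype_injective, hDT.2.2, ← hEcard, hE.2.2, ← pow_add]
    congr 1
    have hcardT : Nat.card T = Nat.card K * K.relIndex T := by
      rw [Subgroup.relIndex, ← Subgroup.card_mul_index (K.subgroupOf T),
        Nat.card_congr (Subgroup.subgroupOfEquivOfLe hKT).toEquiv]
    have hr0 : D'.card ≠ 0 := fun h => hrp (h ▸ dvd_zero p)
    have hrel0 : K.relIndex T ≠ 0 := Subgroup.index_ne_zero_of_finite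
    have t1 := congrArg (fun n => n.factorization p)
      (Subgroup.card_mul_index (Subgroup.centralizer ({ι k₀} : Set T)))
    have t2 := congrArg (fun n => n.factorization p)
      (Subgroup.card_mul_index (Subgroup.centralizer ({k₀} : Set K)))
    simp only [hsize, hcardT, Nat.factorization_mul Nat.card_pos.ne'
        (Nat.mul_ne_zero hr0 Subgroup.index_ne_zero_of_finite),
      Nat.factorization_mul hr0 Subgroup.index_ne_zero_of_finite,
      Nat.factorization_mul Nat.card_pos.ne' Subgroup.index_ne_zero_of_finite,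
      Nat.factorization_mul Nat.card_pos.ne' hrel0,
      Finsupp.add_apply, Nat.factorization_eq_zero_of_not_dvd hrp, zero_add] at t1 t2
    omega

end Cfsg.Agent.Lib.BlockUnion.Extended
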