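import Cfsg.Agent.Lib.Blocks.DefectClass
import Cfsg.Agent.Lib.BrauerMap.BlockConj
import Mathlib

/-!
# Defect groups along isomorphisms
-/

set_option autoImplicit false

namespace Cfsg.Agent.Lib.BlockUnion

open Cfsg
open Cfsg.Agent.Lib Cfsg.Agent.Lib.Blocks

universe u v

variable {G : Type u} {H : Type v} [Group G] [Group H] [Finite G] [Finite H] {p : ℕ} [Fact p.Prime]
  {M : Ideal AlgInt} [M.IsPrime]

theorem isDefectGroup_image_irrCongr (e : H ≃* G) {B : Set (IrrCharacter G)} {D : Subgroup G}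
    (hD : IsDefectGroup p M B D) :
    IsDefectGroup p M (Chars.irrCongr e '' B) (D.map e.symm.toMonoidHom) := by
  obtain ⟨g, ⟨h1, h2, h3⟩, hgD⟩ := isDefectGroup_iff.1 hD
  obtain ⟨hp, hle, hcard⟩ := hgD
  have hc : (Subgroup.centralizer ({g} : Set G)).map e.symm.toMonoidHom =
      Subgroup.centralizer ({e.symm g} : Set H) := by
    ext x
    constructor
    · rintro ⟨y, hy, rfl⟩
      rw [Subgroup.mem_centralizer_singleton_iff]
      show e.symm y * e.symm g = e.symm g * e.symm y
      rw [← map_mul, ← map_mul, Subgroup.mem_centralizer_singleton_iff.1 hy]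
    · intro hx
      refine ⟨e x, ?_, e.symm_apply_apply x⟩
      rw [SetLike.mem_coe, Subgroup.mem_centralizer_singleton_iff]
      apply e.symm.injective
      rw [map_mul, map_mul, e.symm_apply_apply]
      exact Subgroup.mem_centralizer_singleton_iff.1 hx
  refine isDefectGroup_iff.2 ⟨e.symm g, ⟨?_, ?_, ?_⟩, hp.map _, hc ▸ Subgroup.map_mono hle, ?_⟩
  · rw [BrauerMap.blockCoeff_image_irrCongr, e.apply_symm_apply]; exact h1
  · rw [BrauerMap.blockCoeff_image_irrCongr, e.apply_symm_apply]; exact h2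
  · rintro _ ⟨χ, hχ, rfl⟩
    rw [show (Chars.irrCongr e χ : H → ℂ) = fun y => (χ : G → ℂ) (e y) from rfl,
      BrauerMap.centralChar_comp_mulEquiv, e.apply_symm_apply]
    exact h3 χ hχ
  · rw [← hc, Subgroup.card_map_of_injective e.symm.injective, hcard,
      Subgroup.card_map_of_injective e.symm.injective]

end Cfsg.Agent.Lib.BlockUnion
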