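import Cfsg.Agent.Lib.BlockUnion.Quotient
import Cfsg.Agent.Lib.BrauerFeit.RegularPart
import Cfsg.Agent.Lib.Blocks.DefectCard
import Mathlib

/-!
# Blocks with a normal defect group

For a normal p-subgroup D the classes of p-regular elements with class defect D detect the blocks
with defect group D: their idempotents are supported there modulo M, and the count of pairs in two
such classes in one coset relation to a Sylow subgroup factors through these blocks.
-/

set_option autoImplicit false
set_option linter.unusedSectionVars false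

namespace Cfsg.Agent.Lib.BlockUnion.NormalDefect

open Cfsg
open Cfsg.Agent.Lib Cfsg.Agent.Lib.Blocks
open scoped ComplexConjugate

universe u

variable {G : Type u} [Group G] [Fintype G] {p : ℕ} [Fact p.Prime] {M : Ideal AlgInt} [M.IsPrime]
  {D : Subgroup G} [hDn : D.Normal]

theorem map_conj_eq (c : G) : D.map (MulAut.conj c).toMonoidHom = D :=
  Subgroup.Normal.map_conj_eq D c

/-- x is p-regular with class defect D. -/
def Listed (p : ℕ) (D : Subgroup G) (x : G) : Prop := ¬ p ∣ orderOf x ∧ IsClassDefect p x D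

theorem listed_conj {x : G} (h : Listed p D x) (c : G) : Listed p D (c * x * c⁻¹) := by
  refine ⟨?_, ?_⟩
  · rw [show orderOf (c * x * c⁻¹) = orderOf x from
      orderOf_injective (MulAut.conj c).toMonoidHom (MulAut.conj c).injective x]
    exact h.1
  · have := isClassDefect_conj h.2 c
    rwa [map_conj_eq c] at this

theorem listed_of_isConj {x y : G} (h : Listed p D x) (hxy : IsConj x y) : Listed p D y := by
  obtain ⟨c, rfl⟩ := isConj_iff.1 hxy
  exact listed_conj h c

/-- The idempotent of a block with defect group D is supported on listed elements modulo M. -/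
theorem listed_of_unit (hM : IsPModular p M) (hD : IsPGroup p D) {B : Set (IrrCharacter G)}
    (hB : IsPBlock M B) (hBD : IsDefectGroup p M B D) {x : G}
    (hx : ¬ MemLocalIdeal M (blockCoeff B x)) : Listed p D x := by
  refine ⟨fun h => hx (by rw [blockCoeff_eq_zero_of_pSingular hM hB h]; exact memLocalIdeal_zero), ?_⟩
  have hC : x ∈ Subgroup.centralizer (D : Set G) := by
    by_contra h
    exact hx (blockCoeff_mem_ideal_of_not_centralizer D hM hD hB h)
  obtain ⟨Q, hQ, hle⟩ := exists_isClassDefect_ge (p := p) hD hC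
  obtain ⟨g, hg, hgD⟩ := isDefectGroup_iff.1 hBD
  obtain ⟨c, hc⟩ := exists_conj_le_of_unit hM hB hg hgD hQ.1
    (le_centralizer_singleton_iff.1 hQ.2.1) hx
  rw [map_conj_eq] at hc
  exact le_antisymm hle hc ▸ hQ

/-- A block with a unit value at a listed element has defect group D. -/
theorem defect_of_listed (hM : IsPModular p M) (hD : IsPGroup p D) {χ : IrrCharacter G} {x : G}
    (hx : Listed p D x) (hω : ¬ MemLocalIdeal M (centralChar (χ : G → ℂ) x)) :
    IsDefectGroup p M (blockOf M (χ : G → ℂ)) D := by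
  have hB : IsPBlock M (blockOf M (χ : G → ℂ)) := isPBlock_blockOf χ
  obtain ⟨g, hg⟩ := isDefectClass_exists hB
  obtain ⟨E, hE⟩ := exists_isClassDefect (p := p) g
  obtain ⟨c, hc⟩ := exists_conj_le_classDefect hM hB hg hE (mem_blockOf_self χ) hω hx.2
  rw [map_conj_eq] at hc
  have hgrp : IsDefectGroup p M (blockOf M (χ : G → ℂ)) E := isDefectGroup_iff.2 ⟨g, hg, hE⟩
  rwa [le_antisymm hc (normal_le_defectGroup hM hD hB hgrp)] at hgrp

/-- The coset sum of the coefficients at a regular element centralizing D. -/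
theorem sum_coset_congr [Fintype D] (hM : IsPModular p M) (hD : IsPGroup p D)
    {B : Set (IrrCharacter G)} (hB : IsPBlock M B) {g : G} (hreg : ¬ p ∣ orderOf g)
    (hgC : g ∈ Subgroup.centralizer (D : Set G)) :
    MemLocalIdeal M (∑ n : D, blockCoeff B (g * (n : G)) - blockCoeff B g) := by
  classical
  have hpp : p.Prime := Fact.out
  rw [← Finset.sum_erase_add _ _ (Finset.mem_univ (1 : D)), OneMemClass.coe_one, mul_one,
    add_sub_cancel_right]
  refine memLocalIdeal_sum _ _ fun n hn => ?_
  have hn1 : n ≠ 1 := (Finset.mem_erase.1 hn).1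
  by_cases hc : g * (n : G) ∈ Subgroup.centralizer (D : Set G)
  · obtain ⟨k, hk⟩ := IsPGroup.iff_orderOf.1 hD n
    rw [← Subgroup.orderOf_coe] at hk
    have hk0 : k ≠ 0 := by
      rintro rfl
      rw [pow_zero, orderOf_eq_one_iff] at hk
      exact hn1 (Subtype.ext hk)
    have hcomm : Commute g (n : G) := (Subgroup.mem_centralizer_iff.1 hgC n n.2).symm
    rw [blockCoeff_eq_zero_of_pSingular hM hB (g := g * (n : G))]
    · exact memLocalIdeal_zero
    · rw [hcomm.orderOf_mul_eq_mul_orderOf_of_coprime, hk]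
      · exact dvd_mul_of_dvd_right (dvd_pow_self p hk0) _
      · rw [hk]
        exact ((hpp.coprime_iff_not_dvd.2 hreg).symm).pow_right k
  · exact blockCoeff_mem_ideal_of_not_centralizer D hM hD hB hc

open Classical in
/-- The sum of a character over a Sylow subgroup. -/
noncomputable def sylowSum (S : Sylow p G) (χ : G → ℂ) : ℂ :=
  ∑ g : G, if g ∈ (S : Subgroup G) then χ g else 0

theorem exists_sylowSum_eq (S : Sylow p G) (χ : IrrCharacter G) :
    ∃ m : ℕ, sylowSum S (χ : G → ℂ) = (Nat.card (S : Subgroup G) : ℂ) * m := by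
  classical
  haveI := Fintype.ofFinite (S : Subgroup G)
  obtain ⟨m, hm⟩ := Chars.isCharacter_classInner_nat
    (Chars.isCharacter_restrict (S : Subgroup G) (Chars.irr_isCharacter χ))
    (Chars.isCharacter_of_isIrrCharacter (Chars.isIrrCharacter_one (G := (S : Subgroup G))))
  refine ⟨m, ?_⟩
  rw [← hm, classInner, ← mul_assoc, mul_inv_cancel₀ Chars.natCard_ne_zero, one_mul, sylowSum,
    ← Finset.sum_filter]
  simp only [map_one, mul_one]
  exact Finset.sum_subtype _ (fun g => by simp) _

/-- A character with fixed points under a Sylow subgroup is trivial on D. -/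
theorem trivial_of_sylowSum_ne_zero (hD : IsPGroup p D) (S : Sylow p G) (χ : IrrCharacter G)
    (h : sylowSum S (χ : G → ℂ) ≠ 0) : ∀ x ∈ D, (χ : G → ℂ) x = (χ : G → ℂ) 1 := by
  classical
  haveI := Fintype.ofFinite (S : Subgroup G)
  haveI := Fintype.ofFinite D
  have hDS : D ≤ (S : Subgroup G) := hD.le_sylow_of_normal S
  intro x hx
  refine Covering.eq_one_of_sum_ne_zero (N := D) χ ?_ ⟨x, hx⟩
  have hr : IsCharacter (S : Subgroup G) (fun s : (S : Subgroup G) => (χ : G → ℂ) s) :=
    Chars.isCharacter_restrict (S : Subgroup G) (Chars.irr_isCharacter χ)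
  choose a ha using fun φ : IrrCharacter (S : Subgroup G) =>
    Chars.isCharacter_classInner_nat hr (Chars.irr_isCharacter φ)
  set one : IrrCharacter (S : Subgroup G) := ⟨_, Chars.isIrrCharacter_one⟩ with hone
  have hres : ∀ φ : IrrCharacter (S : Subgroup G), ∃ k : ℕ,
      ∑ n : D, (φ : ↥(S : Subgroup G) → ℂ) ⟨(n : G), hDS n.2⟩ = (Nat.card D : ℂ) * k := by
    intro φ
    obtain ⟨k, hk⟩ := Chars.isCharacter_classInner_nat
      (Chars.isCharacter_comp (Subgroup.inclusion hDS) (Chars.irr_isCharacter φ))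
      (Chars.isCharacter_of_isIrrCharacter (Chars.isIrrCharacter_one (G := D)))
    refine ⟨k, ?_⟩
    rw [← hk, classInner, ← mul_assoc, mul_inv_cancel₀ Chars.natCard_ne_zero, one_mul]
    exact Finset.sum_congr rfl fun n _ => by rw [map_one, mul_one]; rfl
  choose k hk using hres
  have hexp : ∀ n : D, (χ : G → ℂ) n =
      ∑ φ : IrrCharacter (S : Subgroup G), (a φ : ℂ) * (φ : ↥(S : Subgroup G) → ℂ) ⟨(n : G), hDS n.2⟩ := by
    intro n
    have := congrFun (Chars.isCharacter_eq_sum_classInner hr) ⟨(n : G), hDS n.2⟩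
    simp only [ha, Finset.sum_apply, Pi.smul_apply, smul_eq_mul] at this
    exact this
  have hsum : ∑ n : D, (χ : G → ℂ) n = ((Nat.card D * ∑ φ, a φ * k φ : ℕ) : ℂ) := by
    simp only [hexp]
    rw [Finset.sum_comm]
    push_cast
    rw [Finset.mul_sum]
    refine Finset.sum_congr rfl fun φ _ => ?_
    rw [← Finset.mul_sum, hk]
    ring
  rw [hsum, Nat.cast_ne_zero]
  refine Nat.mul_ne_zero Nat.card_pos.ne' fun h0 => ?_
  have h1 := Finset.sum_eq_zero_iff.1 h0 one (Finset.mem_univ one)
  rcases mul_eq_zero.1 h1 with h2 | h2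
  · refine h ?_
    have h3 := ha one
    rw [h2, Nat.cast_zero, classInner, mul_eq_zero] at h3
    rw [sylowSum, ← Finset.sum_filter, Finset.sum_subtype _ (p := fun g => g ∈ (S : Subgroup G))
      (fun g => by simp) _]
    have h4 := h3.resolve_left (inv_ne_zero Chars.natCard_ne_zero)
    simpa [hone] using h4
  · have h3 := hk one
    rw [h2, Nat.cast_zero, mul_zero] at h3
    simp [hone] at h3

/-- The characters of G/D inflating into a block with defect group D have defect zero. -/
theorem quot_vanish [Fintype D] (hM : IsPModular p M) (hD : IsPGroup p D)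
    {B : Set (IrrCharacter G)} (hB : IsPBlock M B) (hBD : IsDefectGroup p M B D)
    (ψ : IrrCharacter (G ⧸ D)) (hψ : Chars.inflate D ψ ∈ B) {q : G ⧸ D} (hq : p ∣ orderOf q) :
    (ψ : G ⧸ D → ℂ) q = 0 := by
  classical
  haveI := Fintype.ofFinite (G ⧸ D)
  have hbar : IsPBlock M (blockOf M (ψ : G ⧸ D → ℂ)) := isPBlock_blockOf ψ
  obtain ⟨Db, hDb⟩ := exists_isDefectGroup (p := p) hbar
  obtain ⟨P, hP, hle⟩ := exists_defectGroup_map_ge D hM hbar hB
    (fun φ hφ => mem_of_sameBlock hB hψ (sameBlock_inflate D hφ)) hDb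
  obtain ⟨c, rfl⟩ := isDefectGroup_conjugate hM hB hBD hP
  rw [map_conj_eq, QuotientGroup.map_mk'_self, le_bot_iff] at hle
  have hd0 : blockDefect p (blockOf M (ψ : G ⧸ D → ℂ)) = 0 := by
    have h1 := card_defectGroup hM hbar hDb
    rw [hle, Subgroup.card_bot] at h1
    exact (Nat.pow_eq_one.1 h1.symm).resolve_left (Fact.out : p.Prime).ne_one
  have hnd : ¬ p ∣ Nat.card (G ⧸ D) / charDegree (ψ : G ⧸ D → ℂ) := by
    obtain ⟨-, h0, hdvd⟩ := exists_degree_eq ψ
    obtain ⟨c, hc⟩ := hdvd
    rw [hc, Nat.mul_div_cancel_left _ (Nat.pos_of_ne_zero h0)]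
    intro hp'
    have hc0 : c ≠ 0 := by
      rintro rfl
      rw [mul_zero] at hc
      exact Nat.card_pos.ne' hc
    have h1 : (Nat.card (G ⧸ D)).factorization p =
        (charDegree (ψ : G ⧸ D → ℂ)).factorization p + c.factorization p := by
      rw [hc, Nat.factorization_mul h0 hc0, Finsupp.add_apply]
    have h2 := BrauerFeit.factorization_add_defect (p := p) (mem_blockOf_self (M := M) ψ)
    have h3 : 0 < c.factorization p := (Fact.out : p.Prime).factorization_pos_of_dvd hc0 hp'
    rw [hd0] at h2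
    omega
  have hone := blockOf_eq_singleton_of_defect_zero hM ψ hnd
  have := weak_block_orth hM (hone ▸ hbar) (g := 1)
    (by simpa using (Fact.out : p.Prime).ne_one) hq
  rw [finsum_mem_singleton, mul_eq_zero, map_eq_zero] at this
  exact this.resolve_left (Chars.irr_apply_one_ne_zero ψ)

/-- The part in B of the fixed-point function of a Sylow subgroup. -/
theorem sum_sylowSum_mul [Fintype D] (hM : IsPModular p M) (hD : IsPGroup p D)
    {B : Set (IrrCharacter G)} [DecidablePred (· ∈ B)] (hB : IsPBlock M B)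
    (hBD : IsDefectGroup p M B D) (S : Sylow p G) (x : G) :
    ∑ χ ∈ Finset.univ.filter (· ∈ B), sylowSum S (χ : G → ℂ) * (χ : G → ℂ) x =
      (Nat.card G : ℂ) * ∑ n : D, blockCoeff B (x⁻¹ * (n : G)) := by
  classical
  haveI := Fintype.ofFinite (G ⧸ D)
  haveI := Fintype.ofFinite (S : Subgroup G)
  have hDS : D ≤ (S : Subgroup G) := hD.le_sylow_of_normal S
  rw [sum_coset_blockCoeff, blockCoeff, finsum_mem_eq_toFinset_sum]
  have hsum : ∀ ψ : IrrCharacter (G ⧸ D), Chars.inflate D ψ ∈ B →
      sylowSum S (Chars.inflate D ψ : G → ℂ) = (Nat.card D : ℂ) * (ψ : G ⧸ D → ℂ) 1 := by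
    intro ψ hψ
    rw [sylowSum, Finset.sum_congr rfl (g := fun g : G => if g ∈ D then (ψ : G ⧸ D → ℂ) 1 else 0)]
    · rw [← Finset.sum_filter, Finset.sum_const, nsmul_eq_mul, ← Fintype.card_subtype,
        ← Nat.card_eq_fintype_card]
    · intro g _
      show (if g ∈ (S : Subgroup G) then (ψ : G ⧸ D → ℂ) (g : G ⧸ D) else 0) = _
      by_cases hgD : g ∈ D
      · rw [if_pos hgD, if_pos (hDS hgD), (QuotientGroup.eq_one_iff g).2 hgD]
      · rw [if_neg hgD]
        split_ifs with hgS
        · refine quot_vanish hM hD hB hBD ψ hψ ?_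
          obtain ⟨k, hk⟩ := IsPGroup.iff_orderOf.1 (S.isPGroup'.map (QuotientGroup.mk' D))
            ⟨(g : G ⧸ D), g, hgS, rfl⟩
          rw [← Subgroup.orderOf_coe] at hk
          rw [show orderOf (g : G ⧸ D) = p ^ k from hk]
          refine dvd_pow_self p fun h0 => hgD ?_
          rw [h0, pow_zero, orderOf_eq_one_iff] at hk
          exact (QuotientGroup.eq_one_iff g).1 hk
        · rfl
  rw [← Finset.sum_filter_ne_zero]
  rw [← mul_assoc, show (Nat.card G : ℂ) * (Nat.card (G ⧸ D) : ℂ)⁻¹ = (Nat.card D : ℂ) by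
    rw [Subgroup.card_eq_card_quotient_mul_card_subgroup D, Nat.cast_mul, mul_comm, ← mul_assoc,
      inv_mul_cancel₀ Chars.natCard_ne_zero, one_mul], Finset.mul_sum]
  have hR : ∀ ψ : IrrCharacter (G ⧸ D), Chars.inflate D ψ ∈ B →
      (Nat.card D : ℂ) * ((ψ : G ⧸ D → ℂ) 1 *
        conj ((ψ : G ⧸ D → ℂ) (QuotientGroup.mk' D x⁻¹))) =
      sylowSum S (Chars.inflate D ψ : G → ℂ) * (Chars.inflate D ψ : G → ℂ) x := by
    intro ψ hψ
    rw [hsum ψ hψ, ← mul_assoc]
    congr 1
    show conj ((ψ : G ⧸ D → ℂ) ((x⁻¹ : G) : G ⧸ D)) = (ψ : G ⧸ D → ℂ) (x : G ⧸ D)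
    rw [QuotientGroup.mk_inv, Chars.irr_inv, Complex.conj_conj]
  refine (Finset.sum_bij_ne_zero (fun ψ _ _ => Chars.inflate D ψ) ?_ ?_ ?_ ?_).symm
  · intro ψ hψ hne
    have hm : Chars.inflate D ψ ∈ B := by simpa using hψ
    rw [hR ψ hm] at hne
    simpa using And.intro hm hne
  · intro a _ _ c _ _ h
    exact Chars.inflate_injective D h
  · intro χ hχ hne
    have hm : χ ∈ B := by
      rw [Finset.mem_filter, Finset.mem_filter] at hχ
      exact hχ.1.2
    obtain ⟨ψ, hψ⟩ := Chars.exists_irr_quotient D χ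
      (trivial_of_sylowSum_ne_zero hD S χ (left_ne_zero_of_mul hne))
    have he : Chars.inflate D ψ = χ := Subtype.ext (funext hψ)
    refine ⟨ψ, by simpa [he] using hm, ?_, he⟩
    rw [hR ψ (he ▸ hm), he]
    exact hne
  · intro ψ hψ _
    exact hR ψ (by simpa using hψ)

/-- Pairs in two classes related by the Sylow subgroup, through the characters. -/
theorem count_pairs (S : Sylow p G) (xi xj : G) :
    (Nat.card {yz : G × G // IsConj xi yz.1 ∧ IsConj xj yz.2 ∧
        yz.2 * yz.1⁻¹ ∈ (S : Subgroup G)} : ℂ) =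
      ((Subgroup.centralizer ({xj} : Set G)).index : ℂ) / (Nat.card G : ℂ) *
        ∑ χ : IrrCharacter G, centralChar (χ : G → ℂ) xi *
          (sylowSum S (χ : G → ℂ) * (χ : G → ℂ) xj⁻¹) := by
  classical
  have hG0 : (Nat.card G : ℂ) ≠ 0 := Chars.natCard_ne_zero
  have hcount : (Nat.card {yz : G × G // IsConj xi yz.1 ∧ IsConj xj yz.2 ∧
      yz.2 * yz.1⁻¹ ∈ (S : Subgroup G)} : ℂ) =
      ∑ s : G, if s ∈ (S : Subgroup G) then
        ∑ y : G, Chars.classIndicator xi y * Chars.classIndicator xj (s * y) else 0 := by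
    rw [Nat.card_eq_fintype_card, Fintype.card_subtype, Finset.card_filter, Nat.cast_sum,
      Fintype.sum_prod_type]
    simp only [Nat.cast_ite, Nat.cast_one, Nat.cast_zero]
    rw [Finset.sum_comm]
    calc _ = ∑ y : G, ∑ s : G, if s ∈ (S : Subgroup G) then
          Chars.classIndicator xi y * Chars.classIndicator xj (s * y) else 0 := by
          rw [Finset.sum_comm]
          refine Finset.sum_congr rfl fun y _ => ?_
          refine (Fintype.sum_equiv (Equiv.mulRight y) _ _ fun s => ?_).symm
          simp only [Equiv.coe_mulRight, Chars.classIndicator, mul_inv_cancel_right]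
          split_ifs <;> simp_all
      _ = _ := by
          rw [Finset.sum_comm]
          refine Finset.sum_congr rfl fun s _ => ?_
          split_ifs <;> simp
  have hind : ∀ z : G, Chars.classIndicator xj z =
      ((Subgroup.centralizer ({xj} : Set G)).index : ℂ) / (Nat.card G : ℂ) *
        ∑ χ : IrrCharacter G, (χ : G → ℂ) z * (χ : G → ℂ) xj⁻¹ := by
    intro z
    simp only [Chars.irr_inv]
    rw [Chars.column_orthogonality_eq, ← mul_assoc, div_mul_eq_mul_div, ← Nat.cast_mul,
      Subgroup.index_mul_card, div_self hG0, one_mul]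
  have hconv : ∀ (χ : IrrCharacter G) (s : G),
      ∑ y : G, Chars.classIndicator xi y * (χ : G → ℂ) (s * y) =
        centralChar (χ : G → ℂ) xi * (χ : G → ℂ) s := by
    intro χ s
    have hz : ofFun (Chars.classIndicator xi) ∈ Subalgebra.center ℂ (MonoidAlgebra ℂ G) := by
      rw [mem_center_iff]
      intro g h
      simp only [coeff_ofFun]
      exact Chars.isClassFunction_classIndicator xi g h
    have h := omega_mul χ hz (MonoidAlgebra.single s 1)
    rw [omega_single, one_mul, omega_eq_sum (χ : G → ℂ) (ofFun _ * MonoidAlgebra.single s 1),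
      omega_eq_sum (χ : G → ℂ) (ofFun _)] at h
    simp only [MonoidAlgebra.coeff_mul_single_apply, coeff_ofFun, mul_one] at h
    rw [← Equiv.sum_comp (Equiv.mulRight s)] at h
    simp only [Equiv.coe_mulRight, mul_inv_cancel_right, mul_div_assoc', ← Finset.sum_div] at h
    rw [Covering.centralChar_eq_sum_indicator (Chars.irr_isClassFunction χ), ← Finset.sum_div]
    have hne := Chars.irr_apply_one_ne_zero χ
    have hcyc : ∀ y : G, (χ : G → ℂ) (s * y) = (χ : G → ℂ) (y * s) := fun y => by
      rw [← Chars.irr_isClassFunction χ (y * s) s]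
      congr 1
      group
    simp only [hcyc]
    field_simp at h ⊢
    linear_combination h
  rw [hcount]
  have hs : ∀ s : G, ∑ y : G, Chars.classIndicator xi y * Chars.classIndicator xj (s * y) =
      ((Subgroup.centralizer ({xj} : Set G)).index : ℂ) / (Nat.card G : ℂ) *
        ∑ χ : IrrCharacter G, centralChar (χ : G → ℂ) xi * (χ : G → ℂ) s * (χ : G → ℂ) xj⁻¹ := by
    intro s
    simp only [hind, ← hconv, Finset.mul_sum, Finset.sum_mul]
    rw [Finset.sum_comm]
    exact Finset.sum_congr rfl fun χ _ => Finset.sum_congr rfl fun y _ => by ring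
  simp only [hs, sylowSum, Finset.mul_sum, Finset.sum_mul]
  rw [Finset.sum_comm]
  refine Finset.sum_congr rfl fun s _ => ?_
  split_ifs with h
  · exact Finset.sum_congr rfl fun χ _ => by ring
  · simp

/-- A matrix over a field keeps its rank in an extension field. -/
theorem rank_map_ringHom {K L : Type*} [Field K] [Field L] (f : K →+* L) {ι κ : Type*} [Fintype ι]
    [Fintype κ] (A : Matrix ι κ K) : (A.map f).rank = A.rank := by
  classical
  set T := A.mulVecLin with hT
  set b := Module.finBasis K (LinearMap.range T)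
  obtain ⟨l, hl⟩ := LinearMap.exists_leftInverse_of_injective (LinearMap.range T).subtype
    (Submodule.ker_subtype _)
  obtain ⟨s, hs⟩ := LinearMap.exists_rightInverse_of_surjective T.rangeRestrict
    (LinearMap.range_rangeRestrict T)
  set Bm := LinearMap.toMatrix' ((LinearMap.range T).subtype ∘ₗ b.equivFun.symm.toLinearMap)
  set Cm := LinearMap.toMatrix' (b.equivFun.toLinearMap ∘ₗ T.rangeRestrict)
  set Lm := LinearMap.toMatrix' (b.equivFun.toLinearMap ∘ₗ l)
  set Rm := LinearMap.toMatrix' (s ∘ₗ b.equivFun.symm.toLinearMap)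
  have hA : A = LinearMap.toMatrix' T := (LinearMap.toMatrix'_toLin' A).symm
  have h1 : A = Bm * Cm := by
    rw [hA, ← LinearMap.toMatrix'_comp]
    congr 1
    refine LinearMap.ext fun v => ?_
    simp
  have h2 : Lm * A * Rm = 1 := by
    rw [hA, ← LinearMap.toMatrix'_comp, ← LinearMap.toMatrix'_comp, ← LinearMap.toMatrix'_id]
    congr 1
    refine LinearMap.ext fun v => ?_
    have e1 := LinearMap.congr_fun hs (b.equivFun.symm v)
    simp only [LinearMap.comp_apply, LinearEquiv.coe_coe, LinearMap.id_apply] at e1 ⊢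
    have e2 : T (s (b.equivFun.symm v)) =
        (LinearMap.range T).subtype (b.equivFun.symm v) := congrArg Subtype.val e1
    rw [e2]
    have e3 := LinearMap.congr_fun hl (b.equivFun.symm v)
    simp only [LinearMap.comp_apply, LinearMap.id_apply] at e3
    rw [e3, LinearEquiv.apply_symm_apply]
  have hr : A.rank = Module.finrank K (LinearMap.range T) := rfl
  rw [hr]
  refine le_antisymm ?_ ?_
  · rw [h1, Matrix.map_mul]
    refine le_trans (Matrix.rank_mul_le_left _ _) (le_trans (Matrix.rank_le_card_width _) ?_)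
    rw [Fintype.card_fin]
  · have h3 := congrArg (fun X => Matrix.map X f) h2
    simp only [Matrix.map_mul, Matrix.map_one f (map_zero f) (map_one f)] at h3
    have h4 := congrArg Matrix.rank h3
    rw [Matrix.rank_one, Fintype.card_fin] at h4
    rw [← h4]
    exact le_trans (Matrix.rank_mul_le_left _ _) (Matrix.rank_mul_le_right _ _)

end Cfsg.Agent.Lib.BlockUnion.NormalDefect
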