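import Cfsg.Agent.Lib.BlockUnion.Cover
import Cfsg.Agent.Lib.Blocks.DefectProps
import Cfsg.Agent.Lib.Blocks.SecondMain
import Cfsg.Agent.Lib.Clifford.Correspondence
import Cfsg.Agent.Lib.Chars.Induced
import Mathlib

/-!
# The stabilizer of a block of a normal subgroup

Induction from the stabilizer T of a block b of N is a bijection between the blocks of T covering
b and those of G covering b, and it preserves heights and defect groups.
-/

set_option autoImplicit false
set_option linter.unusedSectionVars false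

namespace Cfsg.Agent.Lib.BlockUnion.Stab

open Cfsg
open Cfsg.Agent.Lib Cfsg.Agent.Lib.Blocks
open Cfsg.Agent.Lib.Clifford (conjFun resFun resTo)
open scoped ComplexConjugate

universe u

variable {G : Type u} [Group G] [Fintype G]

/-- The central character of an induced character is the induced central character. -/
theorem centralChar_indFun (H : Subgroup G) [Fintype H] (ξ : IrrCharacter H) (g : G) :
    centralChar (indFun H (ξ : H → ℂ)) g = inducedCentralChar H (ξ : H → ℂ) g := by
  classical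
  have hcf := Chars.isClassFunction_classIndicator g
  have h1 := Chars.classInner_indFun_left H (ξ : H → ℂ) (fun x => conj (Chars.classIndicator g x))
    (HeightZero.isClassFunction_conj hcf)
  simp only [classInner, Complex.conj_conj] at h1
  rw [Covering.centralChar_eq_sum_indicator (Chars.isClassFunction_indFun H _),
    Covering.inducedCentralChar_eq_sum_indicator, ← Finset.sum_div, ← Finset.sum_div,
    Chars.indFun_one_eq]
  have hx : (ξ : H → ℂ) 1 ≠ 0 := Chars.irr_apply_one_ne_zero ξ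
  have hi : (H.index : ℂ) ≠ 0 := Nat.cast_ne_zero.2 H.index_ne_zero_of_finite
  have hHc : (Nat.card H : ℂ) ≠ 0 := Chars.natCard_ne_zero
  have h2 : ∑ x : G, Chars.classIndicator g x * indFun H (ξ : H → ℂ) x =
      (H.index : ℂ) * ∑ h : H, Chars.classIndicator g (h : G) * (ξ : H → ℂ) h := by
    rw [show (Nat.card G : ℂ) = (Nat.card H : ℂ) * (H.index : ℂ) by
      rw [← Nat.cast_mul, Subgroup.card_mul_index]] at h1
    simp only [mul_comm (Chars.classIndicator g _)]
    field_simp at h1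
    linear_combination h1
  rw [h2]
  field_simp

variable {M : Ideal AlgInt} [M.IsPrime]

theorem inducedCentralChar_congr' (H : Subgroup G) [Fintype H] {ξ ξ' : IrrCharacter H}
    (h : SameBlock M (ξ : H → ℂ) (ξ' : H → ℂ)) (g : G) :
    MemLocalIdeal M (inducedCentralChar H (ξ : H → ℂ) g - inducedCentralChar H (ξ' : H → ℂ) g) := by
  classical
  rw [Covering.inducedCentralChar_eq_sum_indicator, Covering.inducedCentralChar_eq_sum_indicator]
  refine HeightZero.eval_congr_self (f := fun k : H => Chars.classIndicator g (k : G))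
    (fun x y => ?_) (fun x => ?_) (Chars.irr_isClassFunction ξ) (Chars.irr_isClassFunction ξ') h
  · simp only [Subgroup.coe_mul, Subgroup.coe_inv]
    exact Chars.isClassFunction_classIndicator g (x : G) (y : G)
  · simp only [Chars.classIndicator]
    split_ifs
    · exact mem_localRing.1 (one_mem _)
    · exact mem_localRing.1 (zero_mem _)

/-- An induced function takes local integer values. -/
theorem memLocalRing_indFun (H : Subgroup G) [Fintype H] {φ : H → ℂ} (hφ : IsClassFunction H φ)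
    (hR : ∀ h, MemLocalRing M (φ h)) (g : G) : MemLocalRing M (indFun H φ g) := by
  classical
  set F : G → ℂ := fun x => extendByZero H φ (x⁻¹ * g * x) with hF
  have hconst : ∀ x : G, F x = F (Quotient.out (x : G ⧸ H)) := by
    intro x
    obtain ⟨h, hh⟩ := QuotientGroup.mk_out_eq_mul H x
    rw [hh, hF]
    simp only
    have e : (x * (h : G))⁻¹ * g * (x * (h : G)) = (h : G)⁻¹ * (x⁻¹ * g * x) * (h : G) := by group
    rw [e]
    by_cases hm : x⁻¹ * g * x ∈ H
    · have hm' : (h : G)⁻¹ * (x⁻¹ * g * x) * (h : G) ∈ H :=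
        H.mul_mem (H.mul_mem (H.inv_mem h.2) hm) h.2
      rw [Chars.extendByZero_of_mem _ hm, Chars.extendByZero_of_mem _ hm']
      rw [← hφ ⟨_, hm⟩ h⁻¹]
      congr 1
      exact Subtype.ext (by simp)
    · have hm' : (h : G)⁻¹ * (x⁻¹ * g * x) * (h : G) ∉ H := fun h' => hm (by
        have := H.mul_mem (H.mul_mem h.2 h') (H.inv_mem h.2)
        simpa [mul_assoc] using this)
      rw [Chars.extendByZero_of_not_mem _ hm, Chars.extendByZero_of_not_mem _ hm']
  haveI : Fintype (G ⧸ H) := Fintype.ofFinite _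
  have hfib : ∀ q : G ⧸ H, ∑ x ∈ Finset.univ.filter (fun x : G => (x : G ⧸ H) = q), F x =
      (Nat.card H : ℂ) * F (Quotient.out q) := by
    intro q
    rw [Finset.sum_congr rfl fun x hx => (hconst x).trans (by rw [(Finset.mem_filter.1 hx).2]),
      Finset.sum_const, nsmul_eq_mul]
    congr 2
    rw [← Fintype.card_subtype, ← Nat.card_eq_fintype_card]
    refine Nat.card_congr ?_
    refine (Equiv.subtypeEquivRight (q := fun x : G => (Quotient.out q)⁻¹ * x ∈ H) fun x => ?_).trans
      ((Equiv.mulLeft (Quotient.out q)).symm.subtypeEquiv (q := fun y => y ∈ H) fun x => ?_)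
    · show ((x : G ⧸ H) = q) ↔ (Quotient.out q)⁻¹ * x ∈ H
      rw [← QuotientGroup.eq, QuotientGroup.out_eq']
      exact eq_comm
    · simp
  have hsum : indFun H φ g = ∑ q : G ⧸ H, F (Quotient.out q) := by
    have h1 : indFun H φ g = (Nat.card H : ℂ)⁻¹ * ∑ x : G, F x := by rfl
    rw [h1, ← Finset.sum_fiberwise Finset.univ (fun x : G => (x : G ⧸ H)) F,
      Finset.sum_congr rfl fun q _ => hfib q, ← Finset.mul_sum,
      inv_mul_cancel_left₀ Chars.natCard_ne_zero]
  rw [hsum]
  refine mem_localRing.1 (sum_mem fun q _ => mem_localRing.2 ?_)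
  simp only [hF]
  by_cases hm : (Quotient.out q)⁻¹ * g * Quotient.out q ∈ H
  · rw [Chars.extendByZero_of_mem _ hm]; exact hR _
  · rw [Chars.extendByZero_of_not_mem _ hm]; exact mem_localRing.1 (zero_mem _)

variable {N : Subgroup G} [hN : N.Normal] [Fintype N]
  {b : Set (IrrCharacter N)} {T : Subgroup G} [Fintype T]

/-- T is the stabilizer of b. -/
abbrev IsStab (T : Subgroup G) (b : Set (IrrCharacter N)) : Prop :=
  ∀ g : G, g ∈ T ↔ ∀ θ ∈ b, ∀ θ' : IrrCharacter N,
    (∀ n : N, (θ' : N → ℂ) n = (θ : N → ℂ) ⟨g * n * g⁻¹, hN.conj_mem n n.2 g⟩) → θ' ∈ b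

theorem conj_mem_of_mem (hT : IsStab T b) {g : G} (hg : g ∈ T) {θ : IrrCharacter N} (hθ : θ ∈ b) :
    (⟨conjFun g (θ : N → ℂ), Clifford.isIrrCharacter_conjFun g θ.2⟩ : IrrCharacter N) ∈ b :=
  (hT g).1 hg θ hθ _ fun _ => rfl

theorem mem_of_conj_mem (hb : IsPBlock M b) (hT : IsStab T b) {g : G} {θ θ' : IrrCharacter N}
    (hθ : θ ∈ b) (hθ' : θ' ∈ b) (h : conjFun g (θ : N → ℂ) = (θ' : N → ℂ)) : g ∈ T := by
  refine (hT g).2 fun θ₂ hθ₂ θ₂' h₂ => mem_of_sameBlock hb hθ' ?_
  have hs := Covering.sameBlock_conjFun g (sameBlock_of_mem hb hθ hθ₂)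
  rw [h, show conjFun g (θ₂ : N → ℂ) = (θ₂' : N → ℂ) from funext fun n => (h₂ n).symm] at hs
  exact hs

theorem blockCoeff_stable (hT : IsStab T b) {t : G} (ht : t ∈ T) (n : N) :
    blockCoeff b (MulAut.conjNormal t n) = blockCoeff b n := by
  classical
  rw [blockCoeff_eq_sum, blockCoeff_eq_sum]
  congr 1
  let E : IrrCharacter N ≃ IrrCharacter N :=
    { toFun := fun φ => ⟨_, Clifford.isIrrCharacter_conjFun t φ.2⟩
      invFun := fun φ => ⟨_, Clifford.isIrrCharacter_conjFun t⁻¹ φ.2⟩
      left_inv := fun φ => Subtype.ext (by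
        show conjFun t⁻¹ (conjFun t (φ : N → ℂ)) = _
        rw [← Clifford.conjFun_mul, mul_inv_cancel, Clifford.conjFun_one])
      right_inv := fun φ => Subtype.ext (by
        show conjFun t (conjFun t⁻¹ (φ : N → ℂ)) = _
        rw [← Clifford.conjFun_mul, inv_mul_cancel, Clifford.conjFun_one]) }
  refine Fintype.sum_equiv E _ _ fun φ => ?_
  have hmem : E φ ∈ b ↔ φ ∈ b := by
    refine ⟨fun h => ?_, fun h => conj_mem_of_mem hT ht h⟩
    have h' := conj_mem_of_mem hT (T.inv_mem ht) h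
    exact (E.left_inv φ) ▸ h'
  have hval : (φ : N → ℂ) (MulAut.conjNormal t n) = (E φ : N → ℂ) n := rfl
  have hval1 : (E φ : N → ℂ) 1 = (φ : N → ℂ) 1 := Clifford.conjFun_apply_one t _
  simp only [hmem, hval, hval1]

open Classical in
/-- The idempotent of b as a function on T. -/
noncomputable def stabWeight (b : Set (IrrCharacter N)) (T : Subgroup G) : T → ℂ := fun t =>
  if h : (t : G) ∈ N then blockCoeff b (⟨(t : G), h⟩ : N) else 0

theorem isClassFunction_stabWeight (hT : IsStab T b) : IsClassFunction T (stabWeight b T) := by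
  intro x h
  simp only [stabWeight, Subgroup.coe_mul, Subgroup.coe_inv]
  by_cases hx : (x : G) ∈ N
  · have hx' : (h : G) * x * (h : G)⁻¹ ∈ N := hN.conj_mem _ hx h
    rw [dif_pos hx', dif_pos hx, ← blockCoeff_stable hT h.2 ⟨(x : G), hx⟩]
    congr 1
  · have hx' : (h : G) * x * (h : G)⁻¹ ∉ N := fun h' => hx (by
      simpa [mul_assoc] using hN.conj_mem _ h' (h : G)⁻¹)
    rw [dif_neg hx', dif_neg hx]

theorem memLocalRing_stabWeight (hb : IsPBlock M b) (t : T) : MemLocalRing M (stabWeight b T t) := by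
  simp only [stabWeight]
  split_ifs
  · exact memLocalRing_blockCoeff hb _
  · exact mem_localRing.1 (zero_mem _)

/-- The multiplicity of θ below ψ. -/
noncomputable def mult (hNT : N ≤ T) (ψ : T → ℂ) (θ : IrrCharacter N) : ℂ :=
  classInner (resTo hNT ψ) (θ : N → ℂ)

/-- ψ lies over b. -/
def Covers (hNT : N ≤ T) (b : Set (IrrCharacter N)) (ψ : T → ℂ) : Prop :=
  ∃ θ ∈ b, mult hNT ψ θ ≠ 0

/-- The value of the idempotent of b at ψ. -/
noncomputable def stabValue (b : Set (IrrCharacter N)) (ψ : T → ℂ) : ℂ :=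
  ∑ t : T, stabWeight b T t * ψ t / ψ 1

theorem mult_eq (hT : IsStab T b) (hNT : N ≤ T) (ψ : IrrCharacter T) (θ : IrrCharacter N)
    [Decidable (θ ∈ b)] :
    (if θ ∈ b then mult hNT (ψ : T → ℂ) θ else 0) =
      stabValue b (ψ : T → ℂ) * mult hNT (ψ : T → ℂ) θ := by
  classical
  set f := stabWeight b T with hf
  have hz : ofFun f ∈ Subalgebra.center ℂ (MonoidAlgebra ℂ T) := by
    rw [mem_center_iff]
    intro g h
    simp only [coeff_ofFun]
    exact isClassFunction_stabWeight hT g h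
  have hconv : ∀ y : T, ∑ k : T, f k * (ψ : T → ℂ) (k * y) =
      stabValue b (ψ : T → ℂ) * (ψ : T → ℂ) y := by
    intro y
    have h := omega_mul ψ hz (MonoidAlgebra.single y 1)
    rw [omega_single, one_mul, omega_eq_sum (ψ : T → ℂ) (ofFun f * MonoidAlgebra.single y 1),
      omega_eq_sum (ψ : T → ℂ) (ofFun f)] at h
    simp only [MonoidAlgebra.coeff_mul_single_apply, coeff_ofFun, mul_one] at h
    rw [← Equiv.sum_comp (Equiv.mulRight y)] at h
    simp only [Equiv.coe_mulRight, mul_inv_cancel_right, mul_div_assoc', ← Finset.sum_div] at h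
    have hne := Chars.irr_apply_one_ne_zero ψ
    rw [stabValue, ← Finset.sum_div]
    field_simp at h ⊢
    linear_combination h
  have hpart : ∀ m : N, blockPart b (resTo hNT (ψ : T → ℂ)) m =
      stabValue b (ψ : T → ℂ) * resTo hNT (ψ : T → ℂ) m := by
    intro m
    rw [← sum_blockCoeff_mul_eq_blockPart b (Chars.isClassFunction_of_isCharacter
      (Clifford.isCharacter_resTo hNT (Chars.irr_isCharacter ψ))) m, finsum_eq_sum_of_fintype]
    refine Eq.trans ?_ (hconv ⟨(m : G), hNT m.2⟩)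
    refine Finset.sum_bij_ne_zero (fun (n : N) _ _ => (⟨(n : G), hNT n.2⟩ : T))
      (fun _ _ _ => Finset.mem_univ _) (fun a _ _ c _ _ h => ?_) (fun t _ ht => ?_) fun n _ _ => ?_
    · exact Subtype.ext (congrArg (fun x : T => (x : G)) h)
    · have htN : (t : G) ∈ N := by
        by_contra h
        exact ht (by simp [hf, stabWeight, h])
      refine ⟨⟨(t : G), htN⟩, Finset.mem_univ _, ?_, rfl⟩
      have e : f t = blockCoeff b (⟨(t : G), htN⟩ : N) := by simp [hf, stabWeight, htN]
      rw [e] at ht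
      exact ht
    · have e : f ⟨(n : G), hNT n.2⟩ = blockCoeff b n := by simp [hf, stabWeight]
      rw [e]
      rfl
  have hfun : blockPart b (resTo hNT (ψ : T → ℂ)) =
      stabValue b (ψ : T → ℂ) • resTo hNT (ψ : T → ℂ) := funext hpart
  have h1 := congrArg (fun φ => classInner φ (θ : N → ℂ)) hfun
  simp only [Chars.classInner_smul_left] at h1
  rw [mult, ← h1]
  have hbp : blockPart b (resTo hNT (ψ : T → ℂ)) =
      ∑ φ ∈ b.toFinset, classInner (resTo hNT (ψ : T → ℂ)) (φ : N → ℂ) • (φ : N → ℂ) := by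
    funext m
    simp only [blockPart, finsum_mem_eq_toFinset_sum, Finset.sum_apply, Pi.smul_apply, smul_eq_mul]
    rw [Subsingleton.elim (Fintype.ofFinite N) ‹Fintype N›]
  rw [hbp, Chars.classInner_sum_left]
  simp only [Chars.classInner_smul_left, Chars.classInner_irr, mul_ite, mul_one, mul_zero,
    Finset.sum_ite_eq', Set.mem_toFinset]

theorem stabValue_of_covers (hT : IsStab T b) (hNT : N ≤ T) {ψ : IrrCharacter T}
    (h : Covers hNT b (ψ : T → ℂ)) : stabValue b (ψ : T → ℂ) = 1 := by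
  classical
  obtain ⟨θ, hθ, hne⟩ := h
  have := mult_eq hT hNT ψ θ
  rw [if_pos hθ] at this
  exact mul_right_cancel₀ hne (by rw [one_mul]; exact this.symm)

theorem stabValue_of_not_covers (hT : IsStab T b) (hNT : N ≤ T) {ψ : IrrCharacter T}
    (h : ¬ Covers hNT b (ψ : T → ℂ)) : stabValue b (ψ : T → ℂ) = 0 := by
  classical
  obtain ⟨θ, hθ⟩ : ∃ θ : IrrCharacter N, mult hNT (ψ : T → ℂ) θ ≠ 0 := by
    by_contra! h0
    have h1 := congrFun (Chars.isCharacter_eq_sum_classInner
      (φ := resTo hNT (ψ : T → ℂ)) (Clifford.isCharacter_resTo hNT (Chars.irr_isCharacter ψ))) 1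
    simp only [mult] at h0
    simp only [h0, zero_smul, Finset.sum_const_zero, Pi.zero_apply] at h1
    exact Chars.irr_apply_one_ne_zero ψ h1
  have := mult_eq hT hNT ψ θ
  rw [if_neg fun hb' => h ⟨θ, hb', hθ⟩] at this
  exact (mul_eq_zero.1 this.symm).resolve_right hθ

theorem mult_eq_zero_of_not_mem (hT : IsStab T b) (hNT : N ≤ T) {ψ : IrrCharacter T}
    (h : Covers hNT b (ψ : T → ℂ)) {θ : IrrCharacter N} (hθ : θ ∉ b) :
    mult hNT (ψ : T → ℂ) θ = 0 := by
  classical
  have := mult_eq hT hNT ψ θ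
  rw [if_neg hθ, stabValue_of_covers hT hNT h, one_mul] at this
  exact this.symm

theorem covers_of_sameBlock (hb : IsPBlock M b) (hT : IsStab T b) (hNT : N ≤ T)
    {ψ ψ' : IrrCharacter T} (h : Covers hNT b (ψ : T → ℂ))
    (hs : SameBlock M (ψ : T → ℂ) (ψ' : T → ℂ)) : Covers hNT b (ψ' : T → ℂ) := by
  by_contra hn
  have hc : MemLocalIdeal M (stabValue b (ψ : T → ℂ) - stabValue b (ψ' : T → ℂ)) :=
    HeightZero.eval_congr_self (isClassFunction_stabWeight hT)
    (fun t => memLocalRing_stabWeight hb t) (Chars.irr_isClassFunction ψ)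
    (Chars.irr_isClassFunction ψ') hs
  rw [stabValue_of_covers hT hNT h, stabValue_of_not_covers hT hNT hn, sub_zero] at hc
  exact not_memLocalIdeal_one hc

theorem mult_res_indFun (hb : IsPBlock M b) (hT : IsStab T b) (hNT : N ≤ T) {ψ : IrrCharacter T}
    (h : Covers hNT b (ψ : T → ℂ)) {θ : IrrCharacter N} (hθ : θ ∈ b) :
    classInner (resFun N (indFun T (ψ : T → ℂ))) (θ : N → ℂ) = mult hNT (ψ : T → ℂ) θ := by
  classical
  set r := resTo hNT (ψ : T → ℂ) with hr
  have h1 : resFun N (indFun T (ψ : T → ℂ)) =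
      (Nat.card T : ℂ)⁻¹ • ∑ x : G, conjFun x⁻¹ r := by
    funext n
    simp only [resFun, indFun, Pi.smul_apply, Finset.sum_apply, smul_eq_mul]
    congr 1
    refine Finset.sum_congr rfl fun x _ => ?_
    have hm : x⁻¹ * (n : G) * x ∈ N := by simpa using hN.conj_mem (n : G) n.2 x⁻¹
    rw [Chars.extendByZero_of_mem _ (hNT hm)]
    simp only [conjFun, hr, resTo, inv_inv]
  rw [h1, Chars.classInner_smul_left, Chars.classInner_sum_left]
  have h2 : ∀ x : G, classInner (conjFun x⁻¹ r) (θ : N → ℂ) =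
      classInner r (conjFun x (θ : N → ℂ)) := by
    intro x
    conv_lhs => rw [← Clifford.classInner_conjFun x, ← Clifford.conjFun_mul, inv_mul_cancel,
      Clifford.conjFun_one]
  have h3 : ∀ x : G, classInner r (conjFun x (θ : N → ℂ)) =
      if x ∈ T then mult hNT (ψ : T → ℂ) θ else 0 := by
    intro x
    split_ifs with hx
    · have hinv : conjFun x r = r := funext fun n =>
        Chars.irr_isClassFunction ψ ⟨(n : G), hNT n.2⟩ ⟨x, hx⟩
      conv_lhs => rw [← hinv, Clifford.classInner_conjFun]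
      rfl
    · exact mult_eq_zero_of_not_mem hT hNT h
        (θ := ⟨_, Clifford.isIrrCharacter_conjFun x θ.2⟩)
        fun hm => hx (mem_of_conj_mem hb hT hθ hm rfl)
  rw [Finset.sum_congr rfl fun x _ => (h2 x).trans (h3 x), ← Finset.sum_filter, Finset.sum_const,
    nsmul_eq_mul, ← Fintype.card_subtype, ← Nat.card_eq_fintype_card]
  rw [← mul_assoc, inv_mul_cancel₀ Chars.natCard_ne_zero, one_mul]

theorem mult_nat (hNT : N ≤ T) (ψ : IrrCharacter T) (θ : IrrCharacter N) :
    ∃ k : ℕ, mult hNT (ψ : T → ℂ) θ = k :=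
  Chars.isCharacter_classInner_nat (Clifford.isCharacter_resTo hNT (Chars.irr_isCharacter ψ))
    (Chars.irr_isCharacter θ)

theorem res_mult_eq_sum (hNT : N ≤ T) (χ : IrrCharacter G) (θ : IrrCharacter N) :
    classInner (resFun N (χ : G → ℂ)) (θ : N → ℂ) = ∑ ψ : IrrCharacter T,
      classInner (resFun T (χ : G → ℂ)) (ψ : T → ℂ) * mult hNT (ψ : T → ℂ) θ := by
  have h := Chars.isCharacter_eq_sum_classInner (φ := resFun T (χ : G → ℂ))
    (Chars.isCharacter_restrict T (Chars.irr_isCharacter χ))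
  have h2 : resFun N (χ : G → ℂ) = ∑ ψ : IrrCharacter T,
      classInner (resFun T (χ : G → ℂ)) (ψ : T → ℂ) • resTo hNT (ψ : T → ℂ) := by
    funext n
    have := congrFun h ⟨(n : G), hNT n.2⟩
    simp only [Finset.sum_apply, Pi.smul_apply] at this ⊢
    exact this
  rw [h2, Chars.classInner_sum_left]
  simp only [Chars.classInner_smul_left, mult]

/-- Characters over b induce irreducibly from the stabilizer. -/
theorem isIrr_indFun (hb : IsPBlock M b) (hT : IsStab T b) (hNT : N ≤ T) {ψ : IrrCharacter T}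
    (h : Covers hNT b (ψ : T → ℂ)) : IsIrrCharacter G (indFun T (ψ : T → ℂ)) := by
  classical
  obtain ⟨θ, hθ, hne⟩ := h
  have h' : Covers hNT b (ψ : T → ℂ) := ⟨θ, hθ, hne⟩
  have hI := Chars.isCharacter_indFun T (Chars.irr_isCharacter ψ)
  rw [Chars.isIrrCharacter_iff_classInner_eq_one hI]
  obtain ⟨c, hc⟩ := mult_nat hNT ψ θ
  have hc0 : c ≠ 0 := fun h0 => hne (by rw [hc, h0, Nat.cast_zero])
  choose m hm using fun χ : IrrCharacter G =>
    Chars.isCharacter_classInner_nat hI (Chars.irr_isCharacter χ)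
  choose k hk using fun χ : IrrCharacter G =>
    Chars.isCharacter_classInner_nat
      (φ := resFun N (χ : G → ℂ)) (Chars.isCharacter_restrict N (Chars.irr_isCharacter χ))
      (Chars.irr_isCharacter θ)
  have hge : ∀ χ : IrrCharacter G, m χ * c ≤ k χ := by
    intro χ
    choose a ha using fun φ : IrrCharacter T => Chars.isCharacter_classInner_nat
      (φ := resFun T (χ : G → ℂ)) (Chars.isCharacter_restrict T (Chars.irr_isCharacter χ))
      (Chars.irr_isCharacter φ)
    choose e he using fun φ : IrrCharacter T => mult_nat hNT φ θ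
    have hm' : a ψ = m χ := by
      have h1 := Chars.classInner_indFun_left T (ψ : T → ℂ) (χ : G → ℂ) (Chars.irr_isClassFunction χ)
      rw [hm χ] at h1
      have h3 : classInner (resFun T (χ : G → ℂ)) (ψ : T → ℂ) = conj (m χ : ℂ) := by
        rw [h1, Chars.conj_classInner]
        rfl
      rw [ha ψ, map_natCast] at h3
      exact_mod_cast h3
    have hsum : k χ = ∑ φ, a φ * e φ := by
      have := res_mult_eq_sum hNT χ θ
      rw [hk χ] at this
      simp only [ha, he] at this
      exact_mod_cast this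
    rw [hsum, ← hm', show c = e ψ by exact_mod_cast hc.symm.trans (he ψ)]
    exact Finset.single_le_sum (f := fun φ => a φ * e φ) (fun i _ => Nat.zero_le _)
      (Finset.mem_univ ψ)
  have hIeq := Chars.isCharacter_eq_sum_classInner hI
  have hc2 : c = ∑ χ, m χ * k χ := by
    have h1 := mult_res_indFun hb hT hNT h' hθ
    have h2 : resFun N (indFun T (ψ : T → ℂ)) =
        ∑ χ : IrrCharacter G, (m χ : ℂ) • resFun N (χ : G → ℂ) := by
      funext n
      have := congrFun hIeq (n : G)
      simp only [hm, Finset.sum_apply, Pi.smul_apply] at this ⊢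
      exact this
    rw [h2, Chars.classInner_sum_left, hc] at h1
    simp only [Chars.classInner_smul_left, hk] at h1
    exact_mod_cast h1.symm
  have hnorm : classInner (indFun T (ψ : T → ℂ)) (indFun T (ψ : T → ℂ)) =
      ((∑ χ, m χ * m χ : ℕ) : ℂ) := by
    conv_lhs => arg 1; rw [hIeq]
    rw [Chars.classInner_sum_left, Nat.cast_sum]
    refine Finset.sum_congr rfl fun χ _ => ?_
    have h3 : classInner (χ : G → ℂ) (indFun T (ψ : T → ℂ)) = (m χ : ℂ) := by
      rw [← Chars.conj_classInner, hm χ, map_natCast]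
    rw [Chars.classInner_smul_left, hm χ, h3, Nat.cast_mul]
  rw [hnorm]
  have hle : c * ∑ χ, m χ * m χ ≤ c := by
    conv_rhs => rw [hc2]
    rw [Finset.mul_sum]
    refine Finset.sum_le_sum fun χ _ => ?_
    calc c * (m χ * m χ) = m χ * (m χ * c) := by ring
      _ ≤ m χ * k χ := Nat.mul_le_mul_left _ (hge χ)
  have hle1 : ∑ χ, m χ * m χ ≤ 1 :=
    Nat.le_of_mul_le_mul_left (by rwa [mul_one]) (Nat.pos_of_ne_zero hc0)
  have hpos : ∑ χ, m χ * m χ ≠ 0 := by
    intro h0
    refine hc0 ?_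
    rw [hc2, Finset.sum_eq_zero]
    intro χ _
    have := Finset.sum_eq_zero_iff.1 h0 χ (Finset.mem_univ χ)
    rw [mul_self_eq_zero] at this
    rw [this, zero_mul]
  exact_mod_cast le_antisymm hle1 (Nat.one_le_iff_ne_zero.2 hpos)

/-- The induced character as an irreducible character. -/
noncomputable def ind (hb : IsPBlock M b) (hT : IsStab T b) (hNT : N ≤ T) {ψ : IrrCharacter T}
    (h : Covers hNT b (ψ : T → ℂ)) : IrrCharacter G :=
  ⟨_, isIrr_indFun hb hT hNT h⟩

theorem covers_ind (hb : IsPBlock M b) (hT : IsStab T b) (hNT : N ≤ T) {ψ : IrrCharacter T}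
    (h : Covers hNT b (ψ : T → ℂ)) :
    ∃ θ ∈ b, classInner (resFun N (indFun T (ψ : T → ℂ))) (θ : N → ℂ) ≠ 0 := by
  obtain ⟨θ, hθ, hne⟩ := id h
  exact ⟨θ, hθ, by rwa [mult_res_indFun hb hT hNT h hθ]⟩

/-- Only ψ lies over b among the constituents of the restriction of its induced character. -/
theorem constituent_covers_eq (hb : IsPBlock M b) (hT : IsStab T b) (hNT : N ≤ T)
    {ψ : IrrCharacter T} (h : Covers hNT b (ψ : T → ℂ)) :
    classInner (resFun T (indFun T (ψ : T → ℂ))) (ψ : T → ℂ) = 1 ∧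
    ∀ φ : IrrCharacter T, classInner (resFun T (indFun T (ψ : T → ℂ))) (φ : T → ℂ) ≠ 0 →
      Covers hNT b (φ : T → ℂ) → φ = ψ := by
  classical
  set χ : IrrCharacter G := ind hb hT hNT h with hχ
  have hone : classInner (resFun T (χ : G → ℂ)) (ψ : T → ℂ) = 1 := by
    have h1 := Chars.classInner_indFun_right T (ψ : T → ℂ) (χ : G → ℂ) (Chars.irr_isClassFunction χ)
    rw [show indFun T (ψ : T → ℂ) = (χ : G → ℂ) from rfl, Chars.classInner_irr_self] at h1
    exact h1.symm
  refine ⟨hone, fun φ hφ hcov => ?_⟩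
  by_contra hne
  obtain ⟨θ, hθ, hφθ⟩ := hcov
  choose a ha using fun φ : IrrCharacter T => Chars.isCharacter_classInner_nat
    (φ := resFun T (χ : G → ℂ)) (Chars.isCharacter_restrict T (Chars.irr_isCharacter χ))
    (Chars.irr_isCharacter φ)
  choose e he using fun φ : IrrCharacter T => mult_nat hNT φ θ
  have h1 := res_mult_eq_sum hNT χ θ
  rw [show (χ : G → ℂ) = indFun T (ψ : T → ℂ) from rfl, mult_res_indFun hb hT hNT h hθ, he ψ] at h1
  change _ = ∑ φ : IrrCharacter T, classInner (resFun T (χ : G → ℂ)) (φ : T → ℂ) * _ at h1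
  simp only [ha, he] at h1
  have hsum : e ψ = ∑ φ, a φ * e φ := by exact_mod_cast h1
  rw [← Finset.sum_erase_add _ _ (Finset.mem_univ ψ)] at hsum
  have haψ : a ψ = 1 := by exact_mod_cast (ha ψ).symm.trans hone
  rw [haψ, one_mul] at hsum
  have h0 : ∑ φ ∈ Finset.univ.erase ψ, a φ * e φ = 0 := by omega
  have h2 := Finset.sum_eq_zero_iff.1 h0 φ (Finset.mem_erase.2 ⟨hne, Finset.mem_univ φ⟩)
  rcases mul_eq_zero.1 h2 with h3 | h3
  · exact hφ (by
      change classInner (resFun T (χ : G → ℂ)) (φ : T → ℂ) = 0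
      rw [ha φ, h3, Nat.cast_zero])
  · exact hφθ (by rw [he φ, h3, Nat.cast_zero])

theorem exists_ind_eq (hb : IsPBlock M b) (hT : IsStab T b) (hNT : N ≤ T) {χ : IrrCharacter G}
    {θ : IrrCharacter N} (hθ : θ ∈ b)
    (hcon : classInner (resFun N (χ : G → ℂ)) (θ : N → ℂ) ≠ 0) :
    ∃ (ψ : IrrCharacter T) (h : Covers hNT b (ψ : T → ℂ)), ind hb hT hNT h = χ := by
  classical
  rw [res_mult_eq_sum hNT] at hcon
  obtain ⟨ψ, -, hψ⟩ := Finset.exists_ne_zero_of_sum_ne_zero hcon
  obtain ⟨h1, h2⟩ := mul_ne_zero_iff.1 hψ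
  have hcov : Covers hNT b (ψ : T → ℂ) := ⟨θ, hθ, h2⟩
  refine ⟨ψ, hcov, ?_⟩
  by_contra hne
  refine h1 ?_
  have h3 := Chars.classInner_indFun_right T (ψ : T → ℂ) (χ : G → ℂ) (Chars.irr_isClassFunction χ)
  rw [show indFun T (ψ : T → ℂ) = (ind hb hT hNT hcov : G → ℂ) from rfl,
    Chars.classInner_irr_of_ne (fun e => hne e.symm)] at h3
  exact h3.symm

theorem sameBlock_ind (hb : IsPBlock M b) (hT : IsStab T b) (hNT : N ≤ T) {ψ ψ' : IrrCharacter T}
    (h : Covers hNT b (ψ : T → ℂ)) (h' : Covers hNT b (ψ' : T → ℂ))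
    (hs : SameBlock M (ψ : T → ℂ) (ψ' : T → ℂ)) :
    SameBlock M (ind hb hT hNT h : G → ℂ) (ind hb hT hNT h' : G → ℂ) := fun g => by
  show MemLocalIdeal M (centralChar (indFun T (ψ : T → ℂ)) g - centralChar (indFun T (ψ' : T → ℂ)) g)
  rw [centralChar_indFun, centralChar_indFun]
  exact inducedCentralChar_congr' T hs g

theorem sameBlock_of_sameBlock_ind (hb : IsPBlock M b) (hT : IsStab T b) (hNT : N ≤ T)
    {ψ ψ' : IrrCharacter T} (h : Covers hNT b (ψ : T → ℂ)) (h' : Covers hNT b (ψ' : T → ℂ))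
    (hs : SameBlock M (ind hb hT hNT h : G → ℂ) (ind hb hT hNT h' : G → ℂ)) :
    SameBlock M (ψ : T → ℂ) (ψ' : T → ℂ) := by
  classical
  set A := blockOf M (ψ : T → ℂ) with hA
  have hAblock : IsPBlock M A := isPBlock_blockOf ψ
  have hφc : IsClassFunction T (blockCoeff A) := fun x y => blockCoeff_conj A x y
  set F := indFun T (blockCoeff A) with hF
  have hval : ∀ (η : IrrCharacter T) (hη : Covers hNT b (η : T → ℂ)),
      ∑ g : G, F g * (ind hb hT hNT hη : G → ℂ) g / (ind hb hT hNT hη : G → ℂ) 1 =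
        if η ∈ A then 1 else 0 := by
    intro η hη
    set χ := ind hb hT hNT hη with hχ
    have h1 := Chars.classInner_indFun_left T (blockCoeff A) (fun g => conj ((χ : G → ℂ) g))
      (HeightZero.isClassFunction_conj (Chars.irr_isClassFunction χ))
    simp only [classInner, Complex.conj_conj] at h1
    have h2 : ∑ t : T, blockCoeff A t * (χ : G → ℂ) (t : G) =
        (η : T → ℂ) 1 * if η ∈ A then 1 else 0 := by
      have hres := Chars.isCharacter_eq_sum_classInner (φ := resFun T (χ : G → ℂ))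
        (Chars.isCharacter_restrict T (Chars.irr_isCharacter χ))
      have h3 : ∀ t : T, (χ : G → ℂ) (t : G) = ∑ φ : IrrCharacter T,
          classInner (resFun T (χ : G → ℂ)) (φ : T → ℂ) * (φ : T → ℂ) t := fun t => by
        have := congrFun hres t
        simp only [Finset.sum_apply, Pi.smul_apply, smul_eq_mul] at this
        exact this
      simp only [h3, Finset.mul_sum]
      rw [Finset.sum_comm]
      have h4 : ∀ φ : IrrCharacter T, ∑ t : T, blockCoeff A t *
          (classInner (resFun T (χ : G → ℂ)) (φ : T → ℂ) * (φ : T → ℂ) t) =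
          classInner (resFun T (χ : G → ℂ)) (φ : T → ℂ) *
            ((φ : T → ℂ) 1 * if φ ∈ A then 1 else 0) := by
        intro φ
        have h5 := omega_idemC A φ
        rw [omega_eq_sum] at h5
        simp only [idemC, coeff_ofFun] at h5
        rw [← h5, Finset.mul_sum, Finset.mul_sum]
        refine Finset.sum_congr rfl fun t _ => ?_
        have := Chars.irr_apply_one_ne_zero φ
        field_simp
      rw [Finset.sum_congr rfl fun φ _ => h4 φ, Finset.sum_eq_single η]
      · rw [show (χ : G → ℂ) = indFun T (η : T → ℂ) from rfl, (constituent_covers_eq hb hT hNT hη).1,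
          one_mul]
      · intro φ _ hne
        by_cases hφA : φ ∈ A
        · by_cases hz : classInner (resFun T (χ : G → ℂ)) (φ : T → ℂ) = 0
          · rw [hz, zero_mul]
          · exact absurd ((constituent_covers_eq hb hT hNT hη).2 φ hz
              (covers_of_sameBlock hb hT hNT h hφA)) hne
        · rw [if_neg hφA, mul_zero, mul_zero]
      · intro hn; exact absurd (Finset.mem_univ η) hn
    rw [h2] at h1
    have hT0 : (Nat.card T : ℂ) ≠ 0 := Chars.natCard_ne_zero
    have hi : (T.index : ℂ) ≠ 0 := Nat.cast_ne_zero.2 T.index_ne_zero_of_finite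
    have hη1 : (η : T → ℂ) 1 ≠ 0 := Chars.irr_apply_one_ne_zero η
    rw [← Finset.sum_div, show (χ : G → ℂ) 1 = indFun T (η : T → ℂ) 1 from rfl,
      Chars.indFun_one_eq]
    rw [show (Nat.card G : ℂ) = (Nat.card T : ℂ) * (T.index : ℂ) by
      rw [← Nat.cast_mul, Subgroup.card_mul_index]] at h1
    field_simp at h1 ⊢
    linear_combination h1
  have hc := HeightZero.eval_congr_self (Chars.isClassFunction_indFun T (blockCoeff A))
    (fun g => memLocalRing_indFun T hφc (memLocalRing_blockCoeff hAblock) g)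
    (Chars.irr_isClassFunction (ind hb hT hNT h)) (Chars.irr_isClassFunction (ind hb hT hNT h')) hs
  rw [hval ψ h, hval ψ' h', if_pos (mem_blockOf_self ψ)] at hc
  by_contra hn
  rw [if_neg (fun hm : ψ' ∈ A => hn hm), sub_zero] at hc
  exact not_memLocalIdeal_one hc

/-- A block of T over b induces the block of the induced characters. -/
theorem isInducedBlock_ind (hb : IsPBlock M b) (hT : IsStab T b) (hNT : N ≤ T)
    {B' : Set (IrrCharacter T)} (hB' : IsPBlock M B') {ψ : IrrCharacter T} (hψ : ψ ∈ B')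
    (h : Covers hNT b (ψ : T → ℂ)) :
    IsInducedBlock M T B' (blockOf M (ind hb hT hNT h : G → ℂ)) := by
  refine ⟨hB', isPBlock_blockOf _, fun ξ hξ χ hχ g => ?_⟩
  have h' := covers_of_sameBlock hb hT hNT h (sameBlock_of_mem hB' hψ hξ)
  rw [← centralChar_indFun]
  exact sameBlock_trans (sameBlock_symm (sameBlock_ind hb hT hNT h h'
    (sameBlock_of_mem hB' hψ hξ))) hχ g

theorem ind_mem_of_induced (hb : IsPBlock M b) (hT : IsStab T b) (hNT : N ≤ T)
    {B' : Set (IrrCharacter T)} {B : Set (IrrCharacter G)} (hind : IsInducedBlock M T B' B)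
    {ψ : IrrCharacter T} (hψ : ψ ∈ B') (h : Covers hNT b (ψ : T → ℂ)) :
    ind hb hT hNT h ∈ B := by
  obtain ⟨χ, hχ⟩ := isPBlock_nonempty hind.2.1
  refine mem_of_sameBlock hind.2.1 hχ (sameBlock_symm fun g => ?_)
  show MemLocalIdeal M (centralChar (indFun T (ψ : T → ℂ)) g - _)
  rw [centralChar_indFun]
  exact hind.2.2 ψ hψ χ hχ g

theorem mem_iff_exists_ind (hb : IsPBlock M b) (hT : IsStab T b) (hNT : N ≤ T)
    {B' : Set (IrrCharacter T)} {B : Set (IrrCharacter G)} (hind : IsInducedBlock M T B' B)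
    {ψ₀ : IrrCharacter T} (hψ₀ : ψ₀ ∈ B') (h₀ : Covers hNT b (ψ₀ : T → ℂ)) (χ : IrrCharacter G) :
    χ ∈ B ↔ ∃ ψ ∈ B', (χ : G → ℂ) = indFun T (ψ : T → ℂ) := by
  constructor
  · intro hχ
    have hmem := ind_mem_of_induced hb hT hNT hind hψ₀ h₀
    obtain ⟨θ₀, hθ₀, hcon⟩ := covers_ind hb hT hNT h₀
    obtain ⟨φ, hφ⟩ := Covering.exists_constituent (N := N) χ
    have hφc := Covering.constituent_mem_conjClosure hb (sameBlock_of_mem hind.2.1 hmem hχ) hθ₀
      hcon hφ
    obtain ⟨θ, hθ, hθc⟩ := Covering.exists_constituent_mem hφ hφc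
    obtain ⟨ψ, hcov, hψ⟩ := exists_ind_eq hb hT hNT hθ hθc
    refine ⟨ψ, mem_of_sameBlock hind.1 hψ₀ ?_, congrArg Subtype.val hψ.symm⟩
    refine sameBlock_of_sameBlock_ind hb hT hNT h₀ hcov ?_
    rw [hψ]
    exact sameBlock_of_mem hind.2.1 hmem hχ
  · rintro ⟨ψ, hψ, he⟩
    have hcov := covers_of_sameBlock hb hT hNT h₀ (sameBlock_of_mem hind.1 hψ₀ hψ)
    obtain rfl : χ = ind hb hT hNT hcov := Subtype.ext he
    exact ind_mem_of_induced hb hT hNT hind hψ hcov

/-- Heights and defects are preserved. -/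
theorem height_defect_eq {p : ℕ} (hb : IsPBlock M b) (hT : IsStab T b) (hNT : N ≤ T)
    {B' : Set (IrrCharacter T)} {B : Set (IrrCharacter G)} (hind : IsInducedBlock M T B' B)
    {ψ₀ : IrrCharacter T} (hψ₀ : ψ₀ ∈ B') (h₀ : Covers hNT b (ψ₀ : T → ℂ)) :
    blockDefect p B = blockDefect p B' ∧ ∀ ψ ∈ B', ∀ χ : IrrCharacter G,
      (χ : G → ℂ) = indFun T (ψ : T → ℂ) →
      blockHeight p B (χ : G → ℂ) = blockHeight p B' (ψ : T → ℂ) := by
  set e := T.index.factorization p with he
  have hdeg : ∀ ψ : IrrCharacter T, (charDegree (indFun T (ψ : T → ℂ))).factorization p =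
      e + (charDegree (ψ : T → ℂ)).factorization p := by
    intro ψ
    obtain ⟨h1, h2⟩ := HeightZero.charDegree_eq ψ
    have : charDegree (indFun T (ψ : T → ℂ)) = T.index * charDegree (ψ : T → ℂ) := by
      conv_lhs => rw [charDegree, Chars.indFun_one_eq, ← h1, ← Nat.cast_mul, Complex.natCast_re,
        Nat.floor_natCast]
    rw [this, Nat.factorization_mul T.index_ne_zero_of_finite h2, Finsupp.add_apply]
  have hiff := mem_iff_exists_ind hb hT hNT hind hψ₀ h₀
  set S := (fun χ : IrrCharacter G => (charDegree (χ : G → ℂ)).factorization p) '' B with hS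
  set S' := (fun ψ : IrrCharacter T => (charDegree (ψ : T → ℂ)).factorization p) '' B' with hS'
  have hne' : S'.Nonempty := ⟨_, ψ₀, hψ₀, rfl⟩
  have hinf : sInf S = e + sInf S' := by
    refine le_antisymm ?_ ?_
    · obtain ⟨ψ, hψ, hv⟩ := Nat.sInf_mem hne'
      have hcov := covers_of_sameBlock hb hT hNT h₀ (sameBlock_of_mem hind.1 hψ₀ hψ)
      refine Nat.sInf_le ⟨ind hb hT hNT hcov, (hiff _).2 ⟨ψ, hψ, rfl⟩, ?_⟩
      show (charDegree (indFun T (ψ : T → ℂ))).factorization p = _
      rw [hdeg]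
      exact congrArg _ hv
    · have hne : S.Nonempty :=
        ⟨_, ind hb hT hNT h₀, ind_mem_of_induced hb hT hNT hind hψ₀ h₀, rfl⟩
      obtain ⟨χ, hχ, hv⟩ := Nat.sInf_mem hne
      obtain ⟨ψ, hψ, hχψ⟩ := (hiff χ).1 hχ
      rw [← hv]
      simp only [hχψ, hdeg]
      exact Nat.add_le_add_left (Nat.sInf_le (s := S') (m := (charDegree (ψ : T → ℂ)).factorization p)
        ⟨ψ, hψ, rfl⟩) _
  refine ⟨?_, fun ψ hψ χ hχ => ?_⟩
  · unfold blockDefect
    rw [← hS, ← hS', hinf, ← Subgroup.card_mul_index T,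
      Nat.factorization_mul Nat.card_pos.ne' T.index_ne_zero_of_finite, Finsupp.add_apply, ← he]
    omega
  · unfold blockHeight
    rw [← hS, ← hS', hinf, hχ, hdeg]
    omega

theorem isDefectGroup_map {p : ℕ} [Fact p.Prime] (hM : IsPModular p M) (hb : IsPBlock M b)
    (hT : IsStab T b) (hNT : N ≤ T)
    {B' : Set (IrrCharacter T)} {B : Set (IrrCharacter G)} (hind : IsInducedBlock M T B' B)
    {ψ₀ : IrrCharacter T} (hψ₀ : ψ₀ ∈ B') (h₀ : Covers hNT b (ψ₀ : T → ℂ)) {D : Subgroup T}
    (hD : IsDefectGroup p M B' D) : IsDefectGroup p M B (D.map T.subtype) := by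
  obtain ⟨E, hE, hle⟩ := exists_defectGroup_ge_map hM hind hD
  rwa [Subgroup.eq_of_le_of_card_ge hle]
  rw [Subgroup.card_map_of_injective T.subtype_injective, card_defectGroup hM hind.2.1 hE,
    card_defectGroup hM hind.1 hD, (height_defect_eq hb hT hNT hind hψ₀ h₀).1]

end Cfsg.Agent.Lib.BlockUnion.Stab
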